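import Mathlib.RingTheory.Invariant.Basic
import Mathlib.RingTheory.Unramified.Finite
import Mathlib.RingTheory.Smooth.Fiber
import Mathlib.RingTheory.Flat.FaithfullyFlat.Algebra
import Mathlib.RingTheory.TensorProduct.Pi
import Mathlib.RingTheory.Finiteness.ModuleFinitePresentation
import Mathlib.RingTheory.IntegralClosure.IntegralRestrict

/-!
# Free actions of finite groups on rings

If a finite group `G` acts on `A` freely (for every `g ≠ 1` the elements `g • a - a` generate the
unit ideal) and `B = A^G`, then `A` is finite projective and etale over `B` and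
`A ⊗_B A ≅ G → A`.
-/

universe u v w

set_option autoImplicit false
set_option linter.unusedSectionVars false

open TensorProduct

namespace Groth.Pi1Quot

variable (G : Type w) [Group G] (A : Type v) [CommRing A] [MulSemiringAction G A]

/-- The action is free: `V(g • a - a) = ∅` for `g ≠ 1`. -/
def IsFreeAction : Prop :=
  ∀ g : G, g ≠ 1 → Ideal.span (Set.range fun a : A => g • a - a) = ⊤

variable {G A}

/-- Galois coordinates exist for any finite set of nontrivial group elements. -/
theorem exists_coords (hfree : IsFreeAction G A) (s : Finset G) (hs : (1 : G) ∉ s) :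
    ∃ (ι : Type v) (_ : Fintype ι) (x y : ι → A),
      (∑ i, x i * y i = 1) ∧ ∀ g ∈ s, ∑ i, x i * g • y i = 0 := by
  classical
  induction s using Finset.induction_on with
  | empty => exact ⟨PUnit, inferInstance, fun _ => 1, fun _ => 1, by simp, by simp⟩
  | insert g t hgt ih =>
    rw [Finset.mem_insert, not_or] at hs
    obtain ⟨ι, _, x, y, h1, h2⟩ := ih hs.2
    have h := hfree g (Ne.symm hs.1)
    rw [Ideal.eq_top_iff_one, Ideal.span, Finsupp.mem_span_range_iff_exists_finsupp] at h
    obtain ⟨c, hc⟩ := h
    rw [Finsupp.sum] at hc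
    simp only [smul_eq_mul, mul_sub, Finset.sum_sub_distrib] at hc
    let x' : Option c.support → A := fun o => o.elim (∑ a : c.support, c a * g • (a : A)) fun a => -(c a)
    let y' : Option c.support → A := fun o => o.elim 1 fun a => (a : A)
    have h1' : ∑ o, x' o * y' o = 1 := by
      rw [Fintype.sum_option]
      simp only [x', y', Option.elim, mul_one, neg_mul, Finset.sum_neg_distrib]
      rw [Finset.sum_coe_sort c.support (fun a => c a * g • a), Finset.sum_coe_sort c.support (fun a => c a * a)]
      rw [← sub_eq_add_neg]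
      exact hc
    have h2' : ∑ o, x' o * g • y' o = 0 := by
      rw [Fintype.sum_option]
      simp [x', y', Finset.sum_neg_distrib]
    refine ⟨ι × Option c.support, inferInstance, fun k => x k.1 * x' k.2, fun k => y k.1 * y' k.2, ?_, ?_⟩
    · have e : ∀ k : ι × Option c.support,
          x k.1 * x' k.2 * (y k.1 * y' k.2) = (x k.1 * y k.1) * (x' k.2 * y' k.2) := fun k => by ring
      simp only [e, Fintype.sum_prod_type, ← Finset.mul_sum, h1', mul_one, h1]
    · intro g' hg'
      have e : ∀ k : ι × Option c.support,
          x k.1 * x' k.2 * g' • (y k.1 * y' k.2) = (x k.1 * g' • y k.1) * (x' k.2 * g' • y' k.2) :=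
        fun k => by rw [smul_mul']; ring
      simp only [e, Fintype.sum_prod_type, ← Finset.mul_sum]
      rw [← Finset.sum_mul]
      rcases Finset.mem_insert.1 hg' with rfl | hg'
      · rw [h2', mul_zero]
      · rw [h2 g' hg', zero_mul]

variable [Fintype G] [DecidableEq G]

theorem exists_galois_coords (hfree : IsFreeAction G A) :
    ∃ (ι : Type v) (_ : Fintype ι) (x y : ι → A),
      ∀ g : G, ∑ i, x i * g • y i = if g = 1 then 1 else 0 := by
  obtain ⟨ι, _, x, y, h1, h2⟩ := exists_coords hfree (Finset.univ.erase 1) (Finset.notMem_erase _ _)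
  refine ⟨ι, inferInstance, x, y, fun g => ?_⟩
  split_ifs with hg
  · simpa [hg] using h1
  · exact h2 g (Finset.mem_erase.2 ⟨hg, Finset.mem_univ g⟩)

variable (G A) (B : Type u) [CommRing B] [Algebra B A] [SMulCommClass G B A]
  [Algebra.IsInvariant B A G] [FaithfulSMul B A]

/-- `A ⊗_B A → (G → A)`, `a ⊗ c ↦ (a * g c)`. -/
noncomputable def galoisMap : A ⊗[B] A →ₐ[A] G → A :=
  Algebra.TensorProduct.lift (Algebra.ofId A (G → A))
    (Pi.algHom B _ fun g => MulSemiringAction.toAlgHom B A g) fun _ _ => Commute.all _ _

theorem galoisMap_tmul (a c : A) (g : G) : galoisMap G A B (a ⊗ₜ c) g = a * g • c := by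
  simp [galoisMap]

theorem exists_trace : ∃ t : A →ₗ[B] B, ∀ a, algebraMap B A (t a) = ∑ g : G, g • a := by
  have hinv : ∀ a : A, ∀ h : G, h • (∑ g : G, g • a) = ∑ g : G, g • a := fun a h => by
    rw [Finset.smul_sum]
    simp only [smul_smul]
    exact Fintype.sum_bijective (h * ·) (Group.mulLeft_bijective h) _ _ fun _ => rfl
  choose t ht using fun a => Algebra.IsInvariant.isInvariant (A := B) _ (hinv a)
  have hinj := FaithfulSMul.algebraMap_injective B A
  refine ⟨{ toFun := t, map_add' := fun a b => hinj ?_, map_smul' := fun r a => hinj ?_ }, ht⟩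
  · simp [ht, Finset.sum_add_distrib]
  · simp [ht, Algebra.smul_def, smul_mul', Finset.mul_sum]

variable {G A}
variable (hfree : IsFreeAction G A)
include hfree

theorem exists_dual_basis : ∃ (ι : Type v) (_ : Fintype ι) (x y : ι → A) (t : A →ₗ[B] B),
    (∀ a, algebraMap B A (t a) = ∑ g : G, g • a) ∧
    (∀ g : G, ∑ i, x i * g • y i = if g = 1 then 1 else 0) ∧
    ∀ a : A, ∑ i, t (a * y i) • x i = a := by
  obtain ⟨ι, _, x, y, hxy⟩ := exists_galois_coords hfree
  obtain ⟨t, ht⟩ := exists_trace G A B
  refine ⟨ι, inferInstance, x, y, t, ht, hxy, fun a => ?_⟩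
  simp only [Algebra.smul_def, ht, Finset.sum_mul, smul_mul']
  rw [Finset.sum_comm]
  have : ∀ g : G, ∑ i, g • a * g • y i * x i = g • a * if g = 1 then 1 else 0 := fun g => by
    rw [← hxy g, Finset.mul_sum]
    exact Finset.sum_congr rfl fun i _ => by ring
  simp [this]

theorem finite_of_free : Module.Finite B A := by
  obtain ⟨ι, _, x, y, t, -, -, h⟩ := exists_dual_basis B hfree
  refine Module.Finite.of_surjective (∑ i, (LinearMap.proj i).smulRight (x i) : (ι → B) →ₗ[B] A) ?_
  exact fun a => ⟨fun i => t (a * y i), by simp [LinearMap.sum_apply, h]⟩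

theorem projective_of_free : Module.Projective B A := by
  obtain ⟨ι, _, x, y, t, -, -, h⟩ := exists_dual_basis B hfree
  refine Module.Projective.of_split (LinearMap.pi fun i => t ∘ₗ LinearMap.mulRight B (y i))
    (∑ i, (LinearMap.proj i).smulRight (x i)) (LinearMap.ext fun a => ?_)
  simp [LinearMap.sum_apply, h]

theorem galoisMap_bijective : Function.Bijective (galoisMap G A B) := by
  obtain ⟨ι, _, x, y, t, ht, hxy, h⟩ := exists_dual_basis B hfree
  have hyx : ∀ g : G, ∑ i, g • x i * y i = if g = 1 then 1 else 0 := fun g => by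
    have := congrArg (g • ·) (hxy g⁻¹)
    simp only [Finset.smul_sum, smul_mul', smul_inv_smul, inv_eq_one] at this
    simpa [apply_ite (g • · : A → A)] using this
  have hdual : ∀ a : A, ∑ i, t (a * x i) • y i = a := fun a => by
    simp only [Algebra.smul_def, ht, Finset.sum_mul, smul_mul']
    rw [Finset.sum_comm]
    have : ∀ g : G, ∑ i, g • a * g • x i * y i = g • a * if g = 1 then 1 else 0 := fun g => by
      rw [← hyx g, Finset.mul_sum]
      exact Finset.sum_congr rfl fun i _ => by ring
    simp [this]
  let inv : (G → A) → A ⊗[B] A := fun v => ∑ i, (∑ g : G, v g * g • x i) ⊗ₜ y i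
  have hleft : ∀ z, inv (galoisMap G A B z) = z := by
    intro z
    induction z using TensorProduct.induction_on with
    | zero => simp [inv]
    | tmul a c =>
      have e : ∀ i, (∑ g : G, galoisMap G A B (a ⊗ₜ c) g * g • x i) ⊗ₜ[B] y i =
          a ⊗ₜ (t (c * x i) • y i) := fun i => by
        rw [← TensorProduct.smul_tmul]
        congr 1
        simp [galoisMap_tmul, Algebra.smul_def, ht, smul_mul', Finset.mul_sum, mul_assoc, mul_comm]
      simp only [inv, e, ← TensorProduct.tmul_sum, hdual]
    | add z w hz hw =>
      conv_rhs => rw [← hz, ← hw]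
      simp [inv, map_add, add_mul, Finset.sum_add_distrib, TensorProduct.add_tmul]
  refine ⟨Function.LeftInverse.injective hleft, fun v => ⟨inv v, funext fun g => ?_⟩⟩
  simp only [inv, map_sum, Finset.sum_apply, galoisMap_tmul, Finset.sum_mul]
  rw [Finset.sum_comm]
  have : ∀ g' : G, ∑ i, v g' * g' • x i * g • y i = v g' * if g' = g then 1 else 0 := fun g' => by
    have h' := congrArg (g' • ·) (hxy (g'⁻¹ * g))
    simp only [Finset.smul_sum, smul_mul', smul_smul, mul_inv_cancel_left, inv_mul_eq_one] at h'
    rw [apply_ite (g' • · : A → A), smul_one, smul_zero] at h'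
    rw [← h', Finset.mul_sum]
    exact Finset.sum_congr rfl fun i _ => by ring
  simp [this]

theorem etale_of_free : Algebra.Etale B A := by
  have := finite_of_free B hfree
  have := projective_of_free B hfree
  have := Module.finitePresentation_of_projective B A
  have : Algebra.FinitePresentation B A := inferInstance
  have : Algebra.FormallyUnramified B A := by
    obtain ⟨v, hv⟩ := (galoisMap_bijective B hfree).2 (fun g => if g = 1 then 1 else 0)
    refine Algebra.FormallyUnramified.iff_exists_tensorProduct.2 ⟨v, fun s => ?_, ?_⟩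
    · refine (galoisMap_bijective B hfree).1 (funext fun g => ?_)
      rw [map_mul, map_sub, map_zero, Pi.mul_apply, Pi.sub_apply, galoisMap_tmul, galoisMap_tmul, hv]
      by_cases hg : g = 1 <;> simp [hg]
    · have key : ∀ z : A ⊗[B] A, Algebra.TensorProduct.lmul' B z = galoisMap G A B z 1 := fun z => by
        induction z using TensorProduct.induction_on with
        | zero => simp
        | tmul a c => simp [galoisMap_tmul]
        | add z w hz hw => simp [hz, hw]
      rw [key, hv]
      simp
  exact Algebra.Etale.of_formallyUnramified_of_flat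

theorem faithfullyFlat_of_free : Module.FaithfullyFlat B A := by
  have := projective_of_free B hfree
  have := Algebra.IsInvariant.isIntegral B A G
  refine Module.FaithfullyFlat.of_comap_surjective ?_
  exact Algebra.IsIntegral.comap_surjective B A

end Groth.Pi1Quot
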