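import Mathlib.AlgebraicGeometry.Morphisms.Finite
import Mathlib.Data.Fintype.Option

/-!
# Finite morphisms out of finite coproducts
-/

universe u

set_option autoImplicit false
set_option backward.isDefEq.respectTransparency false

open CategoryTheory Limits AlgebraicGeometry

namespace Groth.Pi1Quot

theorem isFinite_sigmaDesc {Z : Scheme.{u}} {ι : Type u} [Finite ι] :
    ∀ {Y : ι → Scheme.{u}} (f : ∀ i, Y i ⟶ Z) [∀ i, IsFinite (f i)], IsFinite (Sigma.desc f) := by
  refine Finite.induction_empty_option (P := fun ι : Type u =>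
    ∀ {Y : ι → Scheme.{u}} (f : ∀ i, Y i ⟶ Z) [∀ i, IsFinite (f i)], IsFinite (Sigma.desc f)) ?_ ?_ ?_ ι
  · intro α β e h Y f hf
    have e1 : Sigma.desc f = (Sigma.reindex e Y).inv ≫ Sigma.desc (fun a => f (e a)) := by
      rw [Iso.eq_inv_comp]
      ext a
      simp
    haveI := h (Y := fun a => Y (e a)) (fun a => f (e a))
    rw [e1]; infer_instance
  · intro Y f hf
    haveI : IsEmpty (∐ Y : Scheme.{u}) := ⟨fun x => by
      obtain ⟨⟨i, -⟩, -⟩ := (sigmaMk Y).surjective x
      exact i.elim⟩
    haveI : IsClosedImmersion (Sigma.desc f) := IsClosedImmersion.of_isPreimmersion _ (by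
      rw [Set.range_eq_empty]; exact isClosed_empty)
    infer_instance
  · intro α _ h Y f hf
    let e : (Y none ⨿ ∐ fun a : α => Y (some a)) ⟶ ∐ Y :=
      coprod.desc (Sigma.ι Y none) (Sigma.desc fun a => Sigma.ι Y (some a))
    let e' : ∐ Y ⟶ (Y none ⨿ ∐ fun a : α => Y (some a)) :=
      Sigma.desc fun i => match i with
        | none => coprod.inl
        | some a => Sigma.ι (fun a : α => Y (some a)) a ≫ coprod.inr
    haveI : IsIso e' := ⟨e, by ext (_ | a) <;> simp [e, e'], by
      apply coprod.hom_ext
      · simp [e, e']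
      · ext a; simp [e, e']⟩
    haveI := h (fun a => f (some a))
    have e1 : Sigma.desc f = e' ≫ coprod.desc (f none) (Sigma.desc fun a => f (some a)) := by
      ext (_ | a) <;> simp [e']
    rw [e1]; infer_instance

end Groth.Pi1Quot
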