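import Groth.Agent.Pi1Quot.Basic
import Mathlib.AlgebraicGeometry.Morphisms.Finite
import Mathlib.AlgebraicGeometry.Morphisms.Separated
import Mathlib.AlgebraicGeometry.Noetherian
import Mathlib.RingTheory.Adjoin.Tower
import Mathlib.RingTheory.Polynomial.Quotient

/-!
# Properties of the quotient of a scheme by a finite group
-/

universe u

set_option autoImplicit false
set_option backward.isDefEq.respectTransparency false

open CategoryTheory Limits AlgebraicGeometry TopologicalSpace Polynomial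

namespace Groth.Pi1Quot

variable {X Y Z : Scheme.{u}} {G : Type u} [Group G] [Finite G] {ρ : G →* Aut X} {p : X ⟶ Y}

/-- The coefficients below the leading one of `∏ (T - g f)` lie in the ideal of the conjugates of `f`. -/
theorem coeff_charpoly_mem {A : Type u} [CommRing A] [MulSemiringAction G A] [Fintype G]
    (I : Ideal A) (f : A) (hf : ∀ g : G, g • f ∈ I) {j : ℕ} (hj : j < Fintype.card G) :
    (MulSemiringAction.charpoly G f).coeff j ∈ I := by
  rw [← Ideal.Quotient.eq_zero_iff_mem, ← Polynomial.coeff_map, MulSemiringAction.charpoly_eq,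
    Polynomial.map_prod]
  have : ∀ g : G, (X - C (g • f)).map (Ideal.Quotient.mk I) = X := fun g => by
    simp [Ideal.Quotient.eq_zero_iff_mem.2 (hf g)]
  rw [Finset.prod_congr rfl fun g _ => this g, Finset.prod_const, Finset.card_univ, coeff_X_pow, if_neg hj.ne]

variable (hp : SGA1.IsQuot ρ p)
include hp

/-- A function on the quotient cutting out an affine neighbourhood. -/
theorem exists_basicOpen_le {V U : Y.Opens} (hA : IsAffineOpen (p ⁻¹ᵁ V)) (hUV : U ≤ V) {y : Y} (hy : y ∈ U) :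
    ∃ b : Γ(Y, V), Y.basicOpen b ≤ U ∧ y ∈ Y.basicOpen b := by
  cases nonempty_fintype G
  haveI := surjective hp
  obtain ⟨x, rfl⟩ := p.surjective y
  obtain ⟨f, hfU, hxf⟩ := hA.exists_basicOpen_le (V := p ⁻¹ᵁ U) ⟨x, hy⟩ (hUV hy)
  letI := action hp.inv V; letI := algebra (p := p) V
  haveI := smulCommClass hp V
  haveI := isInvariant hp V
  have hxV : x ∈ p ⁻¹ᵁ V := hUV hy
  have hcoeff : ∀ j, ∃ b : Γ(Y, V), p.app V b = (MulSemiringAction.charpoly G f).coeff j := fun j =>
    Algebra.IsInvariant.isInvariant (A := Γ(Y, V)) _ (MulSemiringAction.smul_coeff_charpoly f j)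
  choose b hb using hcoeff
  -- some lower coefficient does not vanish at `x`
  obtain ⟨j, hj, hjx⟩ : ∃ j < Fintype.card G, p x ∈ Y.basicOpen (b j) := by
    by_contra hcon
    push Not at hcon
    have hz : ∀ j < Fintype.card G, X.evaluation (p ⁻¹ᵁ V) x hxV ((MulSemiringAction.charpoly G f).coeff j) = 0 := by
      intro j hj
      rw [X.evaluation_eq_zero_iff_notMem_basicOpen, ← hb, ← Scheme.Hom.preimage_basicOpen]
      exact hcon j hj
    have hdeg : (MulSemiringAction.charpoly G f).natDegree ≤ Fintype.card G := by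
      rw [MulSemiringAction.charpoly_eq]
      refine (natDegree_prod_le _ _).trans (Finset.sum_le_card_nsmul _ _ 1 fun g _ => natDegree_X_sub_C_le _ |>.trans le_rfl) |>.trans ?_
      simp
    have hmon := MulSemiringAction.monic_charpoly G f
    have hlead : (MulSemiringAction.charpoly G f).map (X.evaluation (p ⁻¹ᵁ V) x hxV).hom =
        Polynomial.X ^ (MulSemiringAction.charpoly G f).natDegree := by
      ext i
      rw [Polynomial.coeff_map, coeff_X_pow]
      split_ifs with hi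
      · rw [hi]; simp [hmon.coeff_natDegree]
      · rcases lt_or_gt_of_ne hi with h | h
        · exact hz i (h.trans_le hdeg)
        · rw [Polynomial.coeff_eq_zero_of_natDegree_lt h, map_zero]
    have := congrArg (Polynomial.eval (X.evaluation (p ⁻¹ᵁ V) x hxV f)) hlead
    rw [Polynomial.eval_map_apply, MulSemiringAction.eval_charpoly, map_zero, eval_pow, eval_X] at this
    have h0 := pow_eq_zero_iff' |>.1 this.symm
    exact (X.evaluation_eq_zero_iff_notMem_basicOpen x hxV f).1 h0.1 hxf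
  refine ⟨b j, fun y' hy' => ?_, hjx⟩
  obtain ⟨x', rfl⟩ := p.surjective y'
  by_contra hx'
  have hxV' : x' ∈ p ⁻¹ᵁ V := Y.basicOpen_le _ hy'
  have hI : ∀ g : G, g • f ∈ RingHom.ker (X.evaluation (p ⁻¹ᵁ V) x' hxV').hom := by
    intro g
    rw [RingHom.mem_ker, X.evaluation_eq_zero_iff_notMem_basicOpen]
    intro hmem
    have h1 : (ρ g⁻¹).hom x' ∈ X.basicOpen f := by
      have h2 := Scheme.basicOpen_appLE (ρ g⁻¹).hom (p ⁻¹ᵁ V) (p ⁻¹ᵁ V) (SGA1.preimage_le_of_inv ρ p hp.inv g⁻¹ V) f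
      exact (h2.le hmem).2
    apply hx'
    have := hfU h1
    change p ((ρ g⁻¹).hom x') ∈ U at this
    rwa [apply_smul hp] at this
  have h3 := coeff_charpoly_mem _ f hI hj
  rw [RingHom.mem_ker, X.evaluation_eq_zero_iff_notMem_basicOpen, ← hb, ← Scheme.Hom.preimage_basicOpen] at h3
  exact h3 hy'

/-- An open of the quotient with affine preimage is affine. -/
theorem isAffineOpen_of_preimage {V : Y.Opens} (hA : IsAffineOpen (p ⁻¹ᵁ V)) : IsAffineOpen V := by
  have hloc : ∀ y : V, ∃ b : Γ(Y, V), IsAffineOpen (Y.basicOpen b) ∧ (y : Y) ∈ Y.basicOpen b := by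
    intro y
    obtain ⟨_, ⟨U, hU, rfl⟩, hyU, hUV⟩ := Y.isBasis_affineOpens.exists_subset_of_mem_open y.2 V.isOpen
    have hU : IsAffineOpen U := hU
    obtain ⟨b, hbU, hyb⟩ := exists_basicOpen_le hp hA hUV hyU
    refine ⟨b, ?_, hyb⟩
    have h1 := hU.basicOpen (Y.presheaf.map (homOfLE hUV).op b)
    rw [Scheme.basicOpen_res] at h1
    have e : Y.basicOpen b = U ⊓ Y.basicOpen b := (inf_eq_right.2 hbU).symm
    rw [e]
    exact h1
  choose b hb hyb using hloc
  refine isAffineOpen_of_isAffineOpen_basicOpen V (Set.range b) ?_ (by rintro _ ⟨y, rfl⟩; exact hb y)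
  by_contra hne
  obtain ⟨m, hm, hle⟩ := Ideal.exists_le_maximal _ hne
  letI := action hp.inv V; letI := algebra (p := p) V
  haveI := smulCommClass hp V
  haveI := isInvariant hp V
  haveI := faithfulSMul hp V
  haveI := Algebra.IsInvariant.isIntegral Γ(Y, V) Γ(X, p ⁻¹ᵁ V) G
  obtain ⟨P, hP⟩ := Algebra.IsIntegral.comap_surjective Γ(Y, V) Γ(X, p ⁻¹ᵁ V) ⟨m, hm.isPrime⟩
  have hx : hA.fromSpec P ∈ p ⁻¹ᵁ V := by
    rw [← SetLike.mem_coe, ← hA.range_fromSpec]; exact ⟨P, rfl⟩
  have h1 : hA.fromSpec P ∈ p ⁻¹ᵁ Y.basicOpen (b ⟨_, hx⟩) := hyb ⟨_, hx⟩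
  rw [Scheme.Hom.preimage_basicOpen] at h1
  have h2 : P ∈ hA.fromSpec ⁻¹ᵁ X.basicOpen (p.app V (b ⟨_, hx⟩)) := h1
  rw [hA.fromSpec_preimage_basicOpen] at h2
  exact h2 (hP.ge (hle (Ideal.subset_span ⟨_, rfl⟩)) : _)

theorem isAffineHom_of_comp (q : Y ⟶ Z) [IsAffineHom (p ≫ q)] : IsAffineHom q :=
  ⟨fun W hW => isAffineOpen_of_preimage hp (V := q ⁻¹ᵁ W) (hW.preimage (p ≫ q))⟩

theorem isSeparated_of_comp (q : Y ⟶ Z) [IsSeparated (p ≫ q)] : IsSeparated q := by
  haveI := isIntegralHom hp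
  haveI := surjective hp
  have hfac : pullback.diagonal (p ≫ q) ≫
      pullback.map (p ≫ q) (p ≫ q) q q p p (𝟙 Z) (Category.comp_id _) (Category.comp_id _) =
      p ≫ pullback.diagonal q := by
    apply pullback.hom_ext <;> simp [pullback.lift_fst, pullback.lift_snd, pullback.map]
  haveI : UniversallyClosed (pullback.map (p ≫ q) (p ≫ q) q q p p (𝟙 Z) (Category.comp_id _) (Category.comp_id _)) :=
    MorphismProperty.pullbackMap (P := @UniversallyClosed) inferInstance inferInstance rfl rfl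
  refine ⟨IsClosedImmersion.of_isPreimmersion _ ?_⟩
  have hr : Set.range (pullback.diagonal q).base =
      (pullback.map (p ≫ q) (p ≫ q) q q p p (𝟙 Z) (Category.comp_id _) (Category.comp_id _)).base ''
        Set.range (pullback.diagonal (p ≫ q)).base := by
    rw [← Set.range_comp, ← TopCat.coe_comp, ← Scheme.Hom.comp_base, hfac, Scheme.Hom.comp_base,
      TopCat.coe_comp, Set.range_comp, p.surjective.range_eq, Set.image_univ]
  rw [hr]
  exact (Scheme.Hom.isClosedMap _) _ (Scheme.Hom.isClosedEmbedding _).isClosed_range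

theorem isFinite_of_comp (q : Y ⟶ Z) [LocallyOfFiniteType (p ≫ q)] : IsFinite p := by
  haveI := isIntegralHom hp
  haveI := locallyOfFiniteType_of_comp p q
  exact IsFinite.iff_isIntegralHom_and_locallyOfFiniteType _ |>.2 ⟨inferInstance, inferInstance⟩

theorem quasiCompact_of_comp (q : Y ⟶ Z) [QuasiCompact (p ≫ q)] : QuasiCompact q := by
  haveI := surjective hp
  refine (quasiCompact_iff q).2 fun U hU hUc => ?_
  have h := ((p ≫ q).isCompact_preimage (U := ⟨U, hU⟩) hUc).image p.continuous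
  replace h : IsCompact (p.base '' (p.base ⁻¹' (q.base ⁻¹' U))) := h
  rw [Set.image_preimage_eq _ p.surjective] at h
  exact h

/-- Artin-Tate: the quotient of a scheme of finite type over a locally Noetherian scheme is so. -/
theorem locallyOfFiniteType_quot (q : Y ⟶ Z) [IsLocallyNoetherian Z] [LocallyOfFiniteType (p ≫ q)] :
    LocallyOfFiniteType q := by
  haveI := isFinite_of_comp hp q
  rw [HasRingHomProperty.iff_appLE (P := @LocallyOfFiniteType)]
  intro U V e
  have hW : IsAffineOpen (p ⁻¹ᵁ V.1) := V.2.preimage p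
  have h1 := HasRingHomProperty.appLE (P := @LocallyOfFiniteType) (p ≫ q) inferInstance U ⟨_, hW⟩
    (show p ⁻¹ᵁ V.1 ≤ p ⁻¹ᵁ (q ⁻¹ᵁ U.1) from p.preimage_mono e)
  rw [← Scheme.Hom.appLE_comp_appLE p q U.1 V.1 (p ⁻¹ᵁ V.1) e le_rfl, Scheme.Hom.appLE_eq_app] at h1
  have h2 : (p.app V.1).hom.Finite := IsFinite.finite_app (f := p) V.1 V.2
  haveI : IsNoetherianRing Γ(Z, U.1) := IsLocallyNoetherian.component_noetherian U
  algebraize [(q.appLE U.1 V.1 e).hom, (p.app V.1).hom, (q.appLE U.1 V.1 e ≫ p.app V.1).hom]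
  haveI : IsScalarTower Γ(Z, U.1) Γ(Y, V.1) Γ(X, p ⁻¹ᵁ V.1) := IsScalarTower.of_algebraMap_eq' rfl
  exact ⟨fg_of_fg_of_fg Γ(Z, U.1) Γ(Y, V.1) Γ(X, p ⁻¹ᵁ V.1) h1.1 Module.Finite.fg_top (hp.injective V.1)⟩

end Groth.Pi1Quot
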