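import Groth.Agent.Pi1Quot.Basic
import Mathlib.Algebra.MvPolynomial.Basic
import Mathlib.Algebra.MvPolynomial.Eval
import Mathlib.FieldTheory.Normal.Closure
import Mathlib.AlgebraicGeometry.ResidueField

/-!
# Points of quotients by finite groups and residue fields
-/

universe u v w

set_option autoImplicit false
set_option backward.isDefEq.respectTransparency false

open CategoryTheory Limits AlgebraicGeometry

namespace Groth.Pi1Quot

/-- Two ring maps to a domain which agree on the invariants are conjugate. -/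
theorem exists_comp_smul_eq {G : Type w} [Group G] [Finite G] {A : Type v} [CommRing A]
    [MulSemiringAction G A] {Ω : Type u} [CommRing Ω] [IsDomain Ω] (φ ψ : A →+* Ω)
    (h : ∀ a : A, (∀ g : G, g • a = a) → φ a = ψ a) :
    ∃ g : G, ∀ a : A, ψ a = φ (g • a) := by
  classical
  cases nonempty_fintype G
  by_contra hcon
  push Not at hcon
  choose a ha using hcon
  let c : MvPolynomial G A := ∑ k : G, MvPolynomial.C (a k) * MvPolynomial.X k
  let σ : G → MvPolynomial G A →+* MvPolynomial G A := fun g =>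
    MvPolynomial.map (MulSemiringAction.toRingHom G A g)
  let P : Polynomial (MvPolynomial G A) := ∏ g : G, (Polynomial.X - Polynomial.C (σ g c))
  have hcoeff : ∀ n (d : G →₀ ℕ) (g : G), g • MvPolynomial.coeff d (P.coeff n) = MvPolynomial.coeff d (P.coeff n) := by
    intro n d g
    have hP : P.map (σ g) = P := by
      simp only [P, Polynomial.map_prod, Polynomial.map_sub, Polynomial.map_X, Polynomial.map_C]
      refine Fintype.prod_bijective (g * ·) (Group.mulLeft_bijective g) _ _ fun k => ?_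
      simp only [σ, MvPolynomial.map_map]
      congr 2
      refine RingHom.congr_fun (congrArg MvPolynomial.map (RingHom.ext fun x => ?_)) c
      simp [mul_smul]
    conv_rhs => rw [← hP, Polynomial.coeff_map]
    simp [σ, MvPolynomial.coeff_map]
  have hmap : P.map (MvPolynomial.map φ) = P.map (MvPolynomial.map ψ) := by
    refine Polynomial.ext fun n => ?_
    simp only [Polynomial.coeff_map]
    refine MvPolynomial.ext _ _ fun d => ?_
    simp only [MvPolynomial.coeff_map]
    exact h _ (hcoeff n d)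
  have hroot : (P.map (MvPolynomial.map ψ)).eval (MvPolynomial.map ψ c) = 0 := by
    rw [Polynomial.eval_map, Polynomial.eval₂_at_apply]
    have : P.eval c = 0 := by
      simp only [P, Polynomial.eval_prod]
      refine Finset.prod_eq_zero (Finset.mem_univ 1) ?_
      have h1 : MulSemiringAction.toRingHom G A (1 : G) = RingHom.id A := RingHom.ext fun x => one_smul G x
      simp [σ, h1]
      exact sub_eq_zero.2 (MvPolynomial.map_id c).symm
    rw [this, map_zero]
  rw [← hmap] at hroot
  simp only [P, Polynomial.map_prod, Polynomial.map_sub, Polynomial.map_X, Polynomial.map_C,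
    Polynomial.eval_prod, Polynomial.eval_sub, Polynomial.eval_X, Polynomial.eval_C,
    Finset.prod_eq_zero_iff] at hroot
  obtain ⟨g, -, hg⟩ := hroot
  rw [sub_eq_zero] at hg
  have := congrArg (MvPolynomial.coeff (Finsupp.single g 1)) hg
  simp [σ, c, MvPolynomial.coeff_map, MvPolynomial.coeff_sum, MvPolynomial.coeff_X',
    Finsupp.single_left_inj] at this
  exact ha g this

variable {X Y : Scheme.{u}} {G : Type u} [Group G] [Finite G] {ρ : G →* Aut X} {p : X ⟶ Y}
  (hp : SGA1.IsQuot ρ p)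

include hp

/-- Field valued points with the same image are conjugate. -/
theorem exists_fieldPoint_smul {Ω : Type u} [Field Ω] (ξ₁ ξ₂ : Spec (CommRingCat.of Ω) ⟶ X)
    (h : ξ₁ ≫ p = ξ₂ ≫ p) : ∃ g : G, ξ₁ ≫ (ρ g).hom = ξ₂ := by
  haveI := hp.affine
  obtain ⟨_, ⟨U, hU, rfl⟩, hyU, -⟩ :=
    Y.isBasis_affineOpens.exists_subset_of_mem_open (Set.mem_univ (p (ξ₁ default))) isOpen_univ
  have hU : IsAffineOpen U := hU
  have hW := hU.preimage p
  have hr : ∀ ξ : Spec (CommRingCat.of Ω) ⟶ X, ξ ≫ p = ξ₁ ≫ p →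
      ∃ φ : Γ(X, p ⁻¹ᵁ U) ⟶ CommRingCat.of Ω, Spec.map φ ≫ hW.fromSpec = ξ := by
    intro ξ hξ
    have hsub : Set.range ξ.base ⊆ Set.range hW.fromSpec.base := by
      rintro _ ⟨a, rfl⟩
      rw [hW.range_fromSpec, Subsingleton.elim a default]
      change p (ξ default) ∈ U
      rw [← Scheme.Hom.comp_apply, hξ, Scheme.Hom.comp_apply]
      exact hyU
    obtain ⟨φ, hφ⟩ := Spec.map_surjective (IsOpenImmersion.lift hW.fromSpec ξ hsub)
    exact ⟨φ, by rw [hφ, IsOpenImmersion.lift_fac]⟩
  obtain ⟨φ, rfl⟩ := hr ξ₁ rfl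
  obtain ⟨ψ, rfl⟩ := hr ξ₂ h.symm
  have hsq := IsAffineOpen.SpecMap_appLE_fromSpec p hU hW le_rfl
  rw [Scheme.Hom.appLE_eq_app] at hsq
  have hφψ : p.app U ≫ φ = p.app U ≫ ψ := by
    apply Spec.map_injective
    rw [← cancel_mono hU.fromSpec, Spec.map_comp, Spec.map_comp, Category.assoc, Category.assoc, hsq,
      ← Category.assoc, ← Category.assoc]
    exact h
  letI := action hp.inv U
  obtain ⟨g, hg⟩ := exists_comp_smul_eq φ.hom ψ.hom fun a ha => by
    obtain ⟨b, rfl⟩ := (hp.range_iff U a).2 ((forall_smul_iff hp.inv U a).1 ha)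
    exact RingHom.congr_fun (congrArg CommRingCat.Hom.hom hφψ) b
  refine ⟨g⁻¹, ?_⟩
  have hψg : CommRingCat.ofHom (sectionHom hp.inv U g) ≫ φ = ψ :=
    CommRingCat.hom_ext (RingHom.ext fun c => (hg c).symm)
  rw [Category.assoc, ← sectionHom_fromSpec hp.inv U g, ← Category.assoc, ← Spec.map_comp, hψg]

/-- Residue extensions of quotients are algebraic. -/
theorem isAlgebraic_residueField (x : X) :
    letI := (p.residueFieldMap x).hom.toAlgebra
    Algebra.IsAlgebraic (Y.residueField (p x)) (X.residueField x) := by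
  letI := (p.residueFieldMap x).hom.toAlgebra
  haveI := isIntegralHom hp
  obtain ⟨_, ⟨U, hU, rfl⟩, hyU, -⟩ :=
    Y.isBasis_affineOpens.exists_subset_of_mem_open (Set.mem_univ (p x)) isOpen_univ
  have hU : IsAffineOpen U := hU
  have hW := hU.preimage p
  have hxW : x ∈ p ⁻¹ᵁ U := hyU
  have hint : ∀ a : Γ(X, p ⁻¹ᵁ U), IsIntegral (Y.residueField (p x)) (X.evaluation (p ⁻¹ᵁ U) x hxW a) := by
    intro a
    obtain ⟨P, hmon, hP⟩ := IsIntegralHom.isIntegral_app (f := p) U hU a
    refine ⟨P.map (Y.evaluation U (p x) hyU).hom, hmon.map _, ?_⟩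
    rw [Polynomial.eval₂_map]
    have e : (algebraMap (Y.residueField (p x)) (X.residueField x)).comp (Y.evaluation U (p x) hyU).hom =
        (X.evaluation (p ⁻¹ᵁ U) x hxW).hom.comp (p.app U).hom :=
      congrArg CommRingCat.Hom.hom (Scheme.evaluation_naturality p x hyU)
    rw [e, ← Polynomial.hom_eval₂, hP, map_zero]
  refine ⟨fun z => ?_⟩
  obtain ⟨t, rfl⟩ := X.residue_surjective x z
  letI := X.presheaf.algebra_section_stalk (⟨x, hxW⟩ : (p ⁻¹ᵁ U : X.Opens))
  haveI := hW.isLocalization_stalk ⟨x, hxW⟩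
  obtain ⟨⟨a, s⟩, hts⟩ := IsLocalization.surj (hW.primeIdealOf ⟨x, hxW⟩).asIdeal.primeCompl t
  have hu : IsUnit (X.residue x (X.presheaf.germ (p ⁻¹ᵁ U) x hxW s.1)) :=
    (IsLocalization.map_units (X.presheaf.stalk x) s).map (X.residue x).hom
  have h1 : X.residue x t * X.residue x (X.presheaf.germ (p ⁻¹ᵁ U) x hxW s.1) =
      X.residue x (X.presheaf.germ (p ⁻¹ᵁ U) x hxW a) := by
    rw [← map_mul]
    exact congrArg (X.residue x) hts
  have h2 : X.residue x t = X.evaluation (p ⁻¹ᵁ U) x hxW a / X.evaluation (p ⁻¹ᵁ U) x hxW s.1 :=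
    (eq_div_iff hu.ne_zero).2 h1
  rw [h2, div_eq_mul_inv]
  exact ((hint a).isAlgebraic).mul ((hint s.1).isAlgebraic.inv)

end Groth.Pi1Quot
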