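import Groth.Prelude.Def_SGA1
import Groth.Agent.Pi1Quot.Galois
import Mathlib.AlgebraicGeometry.Morphisms.Integral
import Mathlib.AlgebraicGeometry.Gluing
import Mathlib.FieldTheory.IsAlgClosed.AlgebraicClosure
import Mathlib.RingTheory.Ideal.Pointwise

/-!
# Quotients of schemes by finite groups: first properties
-/

universe u

set_option autoImplicit false
set_option backward.isDefEq.respectTransparency false

open CategoryTheory Limits AlgebraicGeometry
open scoped Pointwise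

namespace Groth.Pi1Quot

variable {X Y : Scheme.{u}} {G : Type u} [Group G]

theorem appLE_congr_hom {f f' : X ⟶ Y} (h : f = f') (U : Y.Opens) (V : X.Opens) (e : V ≤ f ⁻¹ᵁ U)
    (e' : V ≤ f' ⁻¹ᵁ U) : f.appLE U V e = f'.appLE U V e' := by subst h; rfl

section Action

variable {ρ : G →* Aut X} {p : X ⟶ Y} (hinv : ∀ g : G, (ρ g).hom ≫ p = p) (U : Y.Opens)

/-- The endomorphism of `O_X(p⁻¹ U)` given by `g`. -/
noncomputable def sectionHom (g : G) : Γ(X, p ⁻¹ᵁ U) →+* Γ(X, p ⁻¹ᵁ U) :=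
  ((ρ g⁻¹).hom.appLE (p ⁻¹ᵁ U) (p ⁻¹ᵁ U) (SGA1.preimage_le_of_inv ρ p hinv g⁻¹ U)).hom

theorem sectionHom_one : sectionHom hinv U 1 = RingHom.id _ := by
  have h1 : (ρ (1 : G)⁻¹).hom = 𝟙 X := by rw [inv_one, map_one]; rfl
  have h2 := appLE_congr_hom h1 (p ⁻¹ᵁ U) (p ⁻¹ᵁ U)
    (SGA1.preimage_le_of_inv ρ p hinv (1 : G)⁻¹ U) (show p ⁻¹ᵁ U ≤ (𝟙 X) ⁻¹ᵁ (p ⁻¹ᵁ U) from le_rfl)
  refine (congrArg CommRingCat.Hom.hom h2).trans ?_
  simp only [Scheme.Hom.appLE]
  simp only [Scheme.Hom.id_app, Category.id_comp]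
  exact congrArg CommRingCat.Hom.hom ((congrArg X.presheaf.map (Subsingleton.elim _ (𝟙 _))).trans (X.presheaf.map_id _))

theorem sectionHom_mul (g h : G) :
    sectionHom hinv U (g * h) = (sectionHom hinv U g).comp (sectionHom hinv U h) := by
  have h1 : (ρ (g * h)⁻¹).hom = (ρ g⁻¹).hom ≫ (ρ h⁻¹).hom := by
    rw [mul_inv_rev, map_mul, Aut.Aut_mul_def, Iso.trans_hom]
  have e1 : p ⁻¹ᵁ U ≤ ((ρ g⁻¹).hom ≫ (ρ h⁻¹).hom) ⁻¹ᵁ (p ⁻¹ᵁ U) := by
    rw [Scheme.Hom.comp_preimage]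
    exact (SGA1.preimage_le_of_inv ρ p hinv g⁻¹ U).trans
      ((ρ g⁻¹).hom.preimage_mono (SGA1.preimage_le_of_inv ρ p hinv h⁻¹ U))
  have h2 := appLE_congr_hom h1 (p ⁻¹ᵁ U) (p ⁻¹ᵁ U)
    (SGA1.preimage_le_of_inv ρ p hinv (g * h)⁻¹ U) e1
  have h3 := Scheme.Hom.appLE_comp_appLE (ρ g⁻¹).hom (ρ h⁻¹).hom (p ⁻¹ᵁ U) (p ⁻¹ᵁ U) (p ⁻¹ᵁ U)
    (SGA1.preimage_le_of_inv ρ p hinv h⁻¹ U) (SGA1.preimage_le_of_inv ρ p hinv g⁻¹ U)
  exact congrArg CommRingCat.Hom.hom (h2.trans h3.symm)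

/-- The action on sections over invariant opens. -/
@[implicit_reducible]
noncomputable def action : MulSemiringAction G Γ(X, p ⁻¹ᵁ U) where
  smul g := sectionHom hinv U g
  one_smul a := RingHom.congr_fun (sectionHom_one hinv U) a
  mul_smul g h a := RingHom.congr_fun (sectionHom_mul hinv U g h) a
  smul_zero g := map_zero (sectionHom hinv U g)
  smul_add g := map_add (sectionHom hinv U g)
  smul_one g := map_one (sectionHom hinv U g)
  smul_mul g := map_mul (sectionHom hinv U g)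

theorem smul_def (g : G) (a : Γ(X, p ⁻¹ᵁ U)) :
    (letI := action hinv U; g • a) = sectionHom hinv U g a := rfl

theorem forall_smul_iff (s : Γ(X, p ⁻¹ᵁ U)) :
    (∀ g, sectionHom hinv U g s = s) ↔
      ∀ g : G, ((ρ g).hom.appLE (p ⁻¹ᵁ U) (p ⁻¹ᵁ U) (SGA1.preimage_le_of_inv ρ p hinv g U)).hom s = s := by
  refine ⟨fun h g => ?_, fun h g => h g⁻¹⟩
  have := h g⁻¹
  simp only [sectionHom] at this
  rwa [appLE_congr_hom (congrArg (fun a => (ρ a).hom) (inv_inv g)) _ _ _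
    (SGA1.preimage_le_of_inv ρ p hinv g U)] at this

theorem sectionHom_app (g : G) (b : Γ(Y, U)) : sectionHom hinv U g (p.app U b) = p.app U b := by
  have := Scheme.Hom.appLE_comp_appLE (ρ g⁻¹).hom p U (p ⁻¹ᵁ U) (p ⁻¹ᵁ U) le_rfl
    (SGA1.preimage_le_of_inv ρ p hinv g⁻¹ U)
  rw [appLE_congr_hom (hinv g⁻¹) _ _ _ le_rfl, Scheme.Hom.appLE_eq_app] at this
  exact RingHom.congr_fun (congrArg CommRingCat.Hom.hom this) b

theorem sectionHom_fromSpec {hW : IsAffineOpen (p ⁻¹ᵁ U)} (g : G) :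
    Spec.map (CommRingCat.ofHom (sectionHom hinv U g)) ≫ hW.fromSpec = hW.fromSpec ≫ (ρ g⁻¹).hom :=
  IsAffineOpen.SpecMap_appLE_fromSpec (ρ g⁻¹).hom hW hW _

/-- The algebra structure on invariant sections. -/
@[implicit_reducible]
noncomputable def algebra : Algebra Γ(Y, U) Γ(X, p ⁻¹ᵁ U) := (p.app U).hom.toAlgebra

end Action

section IsQuot

variable {ρ : G →* Aut X} {p : X ⟶ Y} (hp : SGA1.IsQuot ρ p) (U : Y.Opens)
include hp

theorem smulCommClass : letI := action hp.inv U; letI := algebra (p := p) U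
    SMulCommClass G Γ(Y, U) Γ(X, p ⁻¹ᵁ U) := by
  letI := action hp.inv U; letI := algebra (p := p) U
  refine ⟨fun g b a => ?_⟩
  rw [Algebra.smul_def, Algebra.smul_def, smul_mul']
  congr 1
  exact sectionHom_app hp.inv U g b

theorem isInvariant : letI := action hp.inv U; letI := algebra (p := p) U
    Algebra.IsInvariant Γ(Y, U) Γ(X, p ⁻¹ᵁ U) G := by
  letI := action hp.inv U; letI := algebra (p := p) U
  exact ⟨fun a ha => (hp.range_iff U a).2 ((forall_smul_iff hp.inv U a).1 ha)⟩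

theorem faithfulSMul : letI := algebra (p := p) U
    FaithfulSMul Γ(Y, U) Γ(X, p ⁻¹ᵁ U) := by
  letI := algebra (p := p) U
  exact (faithfulSMul_iff_algebraMap_injective _ _).2 (hp.injective U)

theorem isIntegralHom [Finite G] : IsIntegralHom p := by
  haveI := hp.affine
  refine ⟨fun U _ => ?_⟩
  letI := action hp.inv U; letI := algebra (p := p) U
  haveI := smulCommClass hp U
  haveI := isInvariant hp U
  exact (Algebra.IsInvariant.isIntegral Γ(Y, U) Γ(X, p ⁻¹ᵁ U) G).1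

theorem surjective [Finite G] : Surjective p := by
  haveI := hp.affine
  refine ⟨fun y => ?_⟩
  obtain ⟨_, ⟨U, hU, rfl⟩, hyU, -⟩ :=
    Y.isBasis_affineOpens.exists_subset_of_mem_open (Set.mem_univ y) isOpen_univ
  have hU : IsAffineOpen U := hU
  letI := action hp.inv U; letI := algebra (p := p) U
  haveI := smulCommClass hp U
  haveI := isInvariant hp U
  haveI := faithfulSMul hp U
  haveI := Algebra.IsInvariant.isIntegral Γ(Y, U) Γ(X, p ⁻¹ᵁ U) G
  obtain ⟨q, rfl⟩ : y ∈ Set.range hU.fromSpec := by rw [hU.range_fromSpec]; exact hyU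
  obtain ⟨P, hP⟩ := Algebra.IsIntegral.comap_surjective Γ(Y, U) Γ(X, p ⁻¹ᵁ U) q
  refine ⟨(hU.preimage p).fromSpec P, ?_⟩
  have := IsAffineOpen.SpecMap_appLE_fromSpec p hU (hU.preimage p) le_rfl
  rw [Scheme.Hom.appLE_eq_app] at this
  rw [← Scheme.Hom.comp_apply, ← this, Scheme.Hom.comp_apply]
  exact congrArg _ hP

theorem exists_smul_eq [Finite G] {x x' : X} (h : p x = p x') : ∃ g : G, (ρ g).hom x = x' := by
  haveI := hp.affine
  obtain ⟨_, ⟨U, hU, rfl⟩, hyU, -⟩ :=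
    Y.isBasis_affineOpens.exists_subset_of_mem_open (Set.mem_univ (p x)) isOpen_univ
  have hU : IsAffineOpen U := hU
  have hW := hU.preimage p
  letI := action hp.inv U; letI := algebra (p := p) U
  haveI := smulCommClass hp U
  haveI := isInvariant hp U
  obtain ⟨P, rfl⟩ : x ∈ Set.range hW.fromSpec := by rw [hW.range_fromSpec]; exact hyU
  obtain ⟨Q, rfl⟩ : x' ∈ Set.range hW.fromSpec := by
    rw [hW.range_fromSpec]; exact (show p x' ∈ U from h ▸ hyU)
  have hsq := IsAffineOpen.SpecMap_appLE_fromSpec p hU hW le_rfl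
  rw [Scheme.Hom.appLE_eq_app] at hsq
  rw [← Scheme.Hom.comp_apply, ← Scheme.Hom.comp_apply, ← hsq, Scheme.Hom.comp_apply,
    Scheme.Hom.comp_apply] at h
  have hunder : P.asIdeal.under Γ(Y, U) = Q.asIdeal.under Γ(Y, U) :=
    congrArg PrimeSpectrum.asIdeal (hU.fromSpec.isOpenEmbedding.injective h)
  obtain ⟨g, hg⟩ := Algebra.IsInvariant.exists_smul_of_under_eq Γ(Y, U) Γ(X, p ⁻¹ᵁ U) G P.asIdeal Q.asIdeal hunder
  refine ⟨g, ?_⟩
  have e : Spec.map (CommRingCat.ofHom (sectionHom hp.inv U g⁻¹)) P = Q := by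
    refine PrimeSpectrum.ext ?_
    rw [hg, Ideal.pointwise_smul_eq_comap]
    rfl
  have e2 := sectionHom_fromSpec hp.inv U (hW := hW) g⁻¹
  rw [inv_inv] at e2
  exact ((congrArg (fun f => f.base P) e2).symm).trans (congrArg hW.fromSpec e)

theorem apply_smul (g : G) (x : X) : p ((ρ g).hom x) = p x := by
  rw [← Scheme.Hom.comp_apply, hp.inv]

theorem isQuotientMap [Finite G] : Topology.IsQuotientMap p := by
  haveI := isIntegralHom hp
  exact IsClosedMap.isQuotientMap p.isClosedMap p.continuous (surjective hp).surj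

/-- Freeness on geometric points gives freeness of the action on invariant affine sections. -/
theorem isFreeAction {hU : IsAffineOpen U}
    (hfree : ∀ (K : Type u) [Field K] [IsAlgClosed K] (ξ : Spec (CommRingCat.of K) ⟶ X) (g : G),
      ξ ≫ (ρ g).hom = ξ → g = 1) :
    letI := action hp.inv U
    IsFreeAction G Γ(X, p ⁻¹ᵁ U) := by
  letI := action hp.inv U
  intro g hg
  by_contra hne
  obtain ⟨m, hm, hle⟩ := Ideal.exists_le_maximal _ hne
  haveI := hp.affine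
  have hW := hU.preimage p
  letI := Ideal.Quotient.field m
  let χ : Γ(X, p ⁻¹ᵁ U) →+* AlgebraicClosure (Γ(X, p ⁻¹ᵁ U) ⧸ m) :=
    (algebraMap _ _).comp (Ideal.Quotient.mk m)
  have hχ : χ.comp (sectionHom hp.inv U g) = χ := by
    refine RingHom.ext fun a => ?_
    change algebraMap _ _ (Ideal.Quotient.mk m (g • a)) = algebraMap _ _ (Ideal.Quotient.mk m a)
    rw [Ideal.Quotient.eq.2 (hle (Ideal.subset_span ⟨a, rfl⟩))]
  apply hg
  rw [← inv_eq_one]
  refine hfree _ (Spec.map (CommRingCat.ofHom χ) ≫ hW.fromSpec) g⁻¹ ?_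
  rw [Category.assoc, ← sectionHom_fromSpec hp.inv U g, ← Category.assoc, ← Spec.map_comp,
    ← CommRingCat.ofHom_comp, hχ]

end IsQuot

section Epi

variable {Z : Scheme.{u}} (p : X ⟶ Y)

theorem eq_of_comp_eq (hsurj : Function.Surjective p) (hinj : ∀ U : Y.Opens, Function.Injective (p.app U))
    {a b : Y ⟶ Z} (h : p ≫ a = p ≫ b) : a = b := by
  have hbase : a.base = b.base := by
    ext y
    obtain ⟨x, rfl⟩ := hsurj y
    rw [← Scheme.Hom.comp_apply, h, Scheme.Hom.comp_apply]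
  refine Scheme.Hom.ext hbase fun W => ?_
  refine CommRingCat.hom_ext (RingHom.ext fun s => hinj _ ?_)
  refine RingHom.congr_fun (congrArg CommRingCat.Hom.hom
    (?_ : (a.app W ≫ Y.presheaf.map _) ≫ p.app _ = b.app W ≫ p.app _)) s
  rw [Category.assoc, p.naturality, ← Category.assoc]
  have h2 := Scheme.Hom.congr_app h W
  simp only [Scheme.Hom.comp_app] at h2
  erw [h2]
  simp only [Category.assoc, ← Functor.map_comp]
  rw [← Category.assoc, Subsingleton.elim (_ ≫ _) (𝟙 (Opposite.op (p ⁻¹ᵁ b ⁻¹ᵁ W)))]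
  exact (congrArg (_ ≫ ·) (X.presheaf.map_id _)).trans (Category.comp_id _)

theorem morphismRestrict_app_injective (hinj : ∀ U : Y.Opens, Function.Injective (p.app U))
    (V : Y.Opens) (W : V.toScheme.Opens) : Function.Injective ((p ∣_ V).app W) := by
  rw [morphismRestrict_app]
  exact (ConcreteCategory.bijective_of_isIso
    (X.presheaf.map (eqToHom (image_morphismRestrict_preimage p V W)).op)).1.comp (hinj _)

theorem exists_desc (hsurj : Function.Surjective p) (hinj : ∀ U : Y.Opens, Function.Injective (p.app U))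
    (h : X ⟶ Z) (hloc : ∀ y : Y, ∃ (V : Y.Opens) (_ : y ∈ V) (g : (V : Scheme.{u}) ⟶ Z),
      (p ∣_ V) ≫ g = (p ⁻¹ᵁ V).ι ≫ h) :
    ∃! h' : Y ⟶ Z, p ≫ h' = h := by
  choose V hyV g hg using hloc
  have hcov : ⨆ y, V y = ⊤ := eq_top_iff.2 fun y _ => TopologicalSpace.Opens.mem_iSup.2 ⟨y, hyV y⟩
  let 𝒰 : Y.OpenCover := Y.openCoverOfIsOpenCover V hcov
  have hag : ∀ i j, pullback.fst (V i).ι (V j).ι ≫ g i = pullback.snd _ _ ≫ g j := by
    intro i j
    let jm := pullback.fst (V i).ι (V j).ι ≫ (V i).ι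
    let W := jm.opensRange
    let e := jm.isoOpensRange
    rw [← cancel_epi e.inv]
    refine eq_of_comp_eq (p ∣_ W) (fun w => ?_) (morphismRestrict_app_injective p hinj W) ?_
    · obtain ⟨x, hx⟩ := hsurj w.1
      exact ⟨⟨x, show p x ∈ W from hx ▸ w.2⟩, Subtype.ext (by rw [morphismRestrict_base]; exact hx)⟩
    have hle : ∀ k, W ≤ V k → (p ∣_ W) ≫ Y.homOfLE (le_refl W) = p ∣_ W := fun k _ => by simp
    have key : ∀ (k : Y) (q : pullback (V i).ι (V j).ι ⟶ (V k : Scheme.{u})) (hq : q ≫ (V k).ι = jm),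
        (p ∣_ W) ≫ e.inv ≫ q ≫ g k = (p ⁻¹ᵁ W).ι ≫ h := by
      intro k q hq
      have hWk : W ≤ V k := by
        rintro _ ⟨t, rfl⟩
        rw [← hq, Scheme.Hom.comp_apply]
        exact (q t).2
      have e1 : (p ∣_ W) ≫ e.inv ≫ q =
          X.homOfLE (p.preimage_mono hWk) ≫ (p ∣_ V k) := by
        rw [← cancel_mono (V k).ι]
        simp only [Category.assoc, hq, morphismRestrict_ι, Scheme.homOfLE_ι_assoc]
        rw [show e.inv ≫ jm = W.ι from Scheme.Hom.isoOpensRange_inv_comp jm, morphismRestrict_ι]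
      rw [reassoc_of% e1, hg, Scheme.homOfLE_ι_assoc]
    exact (key i _ rfl).trans (key j _ pullback.condition.symm).symm
  have hglue : p ≫ 𝒰.glueMorphisms g hag = h := by
    refine (X.openCoverOfIsOpenCover (fun y => p ⁻¹ᵁ V y) ?_).hom_ext _ _ fun y => ?_
    · exact eq_top_iff.2 fun x _ => TopologicalSpace.Opens.mem_iSup.2 ⟨p x, hyV _⟩
    change (p ⁻¹ᵁ V y).ι ≫ p ≫ 𝒰.glueMorphisms g hag = (p ⁻¹ᵁ V y).ι ≫ h
    rw [← morphismRestrict_ι_assoc, ← hg y]
    exact congrArg ((p ∣_ V y) ≫ ·) (𝒰.ι_glueMorphisms g hag y)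
  exact ⟨_, hglue, fun h' hh' => eq_of_comp_eq p hsurj hinj (hh'.trans hglue.symm)⟩

end Epi

end Groth.Pi1Quot
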