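import Groth.Agent.Pi1Quot.Basic

/-!
# The quotient property is local on an affine cover
-/

universe u

set_option autoImplicit false
set_option backward.isDefEq.respectTransparency false

open CategoryTheory Limits AlgebraicGeometry TopologicalSpace Opposite

namespace Groth.Pi1Quot

variable {X Y : Scheme.{u}} {G : Type u} [Group G] {ρ : G →* Aut X} {p : X ⟶ Y}
  (hinv : ∀ g : G, (ρ g).hom ≫ p = p)

/-- Over `U`, the sections of `O_Y` are the invariant sections of `O_X`. -/
def InvOn (U : Y.Opens) : Prop :=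
  Function.Injective (p.app U) ∧
    ∀ s : Γ(X, p ⁻¹ᵁ U), (∀ g, sectionHom hinv U g s = s) → ∃ t, p.app U t = s

/-- Restriction on `X` along an inclusion of opens of `Y`. -/
noncomputable abbrev res {U V : Y.Opens} (h : V ≤ U) : Γ(X, p ⁻¹ᵁ U) →+* Γ(X, p ⁻¹ᵁ V) :=
  (X.presheaf.map (homOfLE (p.preimage_mono h)).op).hom

theorem res_app {U V : Y.Opens} (h : V ≤ U) (b : Γ(Y, U)) :
    res (p := p) h (p.app U b) = p.app V (Y.presheaf.map (homOfLE h).op b) :=
  (RingHom.congr_fun (congrArg CommRingCat.Hom.hom (p.naturality (homOfLE h).op)) b).symm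

theorem res_res {U V W : Y.Opens} (h : V ≤ U) (h' : W ≤ V) (s : Γ(X, p ⁻¹ᵁ U)) :
    res (p := p) h' (res h s) = res (h'.trans h) s :=
  (RingHom.congr_fun (congrArg CommRingCat.Hom.hom
    (X.presheaf.map_comp (homOfLE (p.preimage_mono h)).op (homOfLE (p.preimage_mono h')).op)) s).symm

theorem res_sectionHom {U V : Y.Opens} (h : V ≤ U) (g : G) (s : Γ(X, p ⁻¹ᵁ U)) :
    res h (sectionHom hinv U g s) = sectionHom hinv V g (res h s) :=
  RingHom.congr_fun (congrArg CommRingCat.Hom.hom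
    ((Scheme.Hom.appLE_map (ρ g⁻¹).hom (SGA1.preimage_le_of_inv ρ p hinv g⁻¹ U) _).trans
      (Scheme.Hom.map_appLE (ρ g⁻¹).hom (SGA1.preimage_le_of_inv ρ p hinv g⁻¹ V) _).symm)) s

variable [Finite G] [IsAffineHom p]

/-- Invariants commute with localization. -/
theorem InvOn.basicOpen {U : Y.Opens} (hU : IsAffineOpen U) (h : InvOn hinv U) (b : Γ(Y, U)) :
    InvOn hinv (Y.basicOpen b) := by
  cases nonempty_fintype G
  set D := Y.basicOpen b
  have hle : D ≤ U := Y.basicOpen_le b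
  have hW : IsAffineOpen (p ⁻¹ᵁ U) := hU.preimage p
  set β := p.app U b
  have hD : p ⁻¹ᵁ D = X.basicOpen β := Scheme.Hom.preimage_basicOpen p b
  letI algY : Algebra Γ(Y, U) Γ(Y, D) := (Y.presheaf.map (homOfLE hle).op).hom.toAlgebra
  haveI : IsLocalization.Away b Γ(Y, D) := hU.isLocalization_of_eq_basicOpen b (homOfLE hle) rfl
  letI algX : Algebra Γ(X, p ⁻¹ᵁ U) Γ(X, p ⁻¹ᵁ D) := (res hle).toAlgebra
  haveI : IsLocalization.Away β Γ(X, p ⁻¹ᵁ D) :=
    hW.isLocalization_of_eq_basicOpen β (homOfLE (p.preimage_mono hle)) hD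
  have happ : ∀ c, res hle (p.app U c) = p.app D (algebraMap Γ(Y, U) Γ(Y, D) c) := res_app hle
  have hzero : ∀ a : Γ(X, p ⁻¹ᵁ U), res hle a = 0 → ∃ m : ℕ, β ^ m * a = 0 := by
    intro a ha
    obtain ⟨⟨_, m, rfl⟩, hm⟩ :=
      (IsLocalization.map_eq_zero_iff (Submonoid.powers β) Γ(X, p ⁻¹ᵁ D) a).1 ha
    exact ⟨m, hm⟩
  refine ⟨(injective_iff_map_eq_zero _).2 fun t ht => ?_, fun s hs => ?_⟩
  · obtain ⟨n, c, hc⟩ := IsLocalization.Away.surj b t
    have hx := congrArg (p.app D) hc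
    rw [map_mul, ht, zero_mul, ← happ] at hx
    obtain ⟨m, hm⟩ := hzero _ hx.symm
    have h0 : b ^ m * c = 0 := h.1 (by rw [map_mul, map_pow, map_zero]; exact hm)
    have h1 := congrArg (algebraMap Γ(Y, U) Γ(Y, D)) h0
    rw [map_mul, map_pow, map_zero] at h1
    have hu : IsUnit (algebraMap Γ(Y, U) Γ(Y, D) b) := IsLocalization.Away.algebraMap_isUnit b
    rw [(hu.pow m).mul_right_eq_zero] at h1
    rwa [h1, (hu.pow n).mul_left_eq_zero] at hc
  · obtain ⟨n, a, ha⟩ := IsLocalization.Away.surj β s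
    change s * res hle β ^ n = res hle a at ha
    have hβ : ∀ g, sectionHom hinv U g β = β := fun g => sectionHom_app hinv U g b
    have hga : ∀ g, ∃ m : ℕ, β ^ m * (sectionHom hinv U g a - a) = 0 := fun g => by
      refine hzero _ ?_
      rw [map_sub, res_sectionHom hinv, ← ha, map_mul, map_pow, hs g, ← res_sectionHom hinv, hβ, sub_self]
    choose m hm using hga
    let M := Finset.univ.sup m
    have hinvM : ∀ g, sectionHom hinv U g (β ^ M * a) = β ^ M * a := fun g => by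
      have hle' : m g ≤ M := Finset.le_sup (Finset.mem_univ g)
      rw [map_mul, map_pow, hβ]
      obtain ⟨k, hk⟩ := Nat.exists_eq_add_of_le hle'
      rw [← sub_eq_zero, ← mul_sub, hk, pow_add, mul_comm (β ^ m g), mul_assoc, hm, mul_zero]
    obtain ⟨c, hc⟩ := h.2 _ hinvM
    obtain ⟨w, hw⟩ := ((IsLocalization.Away.algebraMap_isUnit (S := Γ(Y, D)) b).pow (n + M)).exists_right_inv
    refine ⟨algebraMap Γ(Y, U) Γ(Y, D) c * w, ?_⟩
    have hw' := congrArg (p.app D) hw
    rw [map_mul, map_one, map_pow, ← happ] at hw'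
    rw [map_mul, ← happ, hc, map_mul, map_pow, ← ha]
    calc res hle β ^ M * (s * res hle β ^ n) * p.app D w
        = s * (res hle β ^ (n + M) * p.app D w) := by rw [pow_add]; ring
      _ = s := by rw [hw', mul_one]

variable (H : ∀ y : Y, ∃ U : Y.Opens, IsAffineOpen U ∧ y ∈ U ∧ InvOn hinv U)
include H

theorem exists_invOn_le {V : Y.Opens} {y : Y} (hy : y ∈ V) :
    ∃ D : Y.Opens, y ∈ D ∧ D ≤ V ∧ InvOn hinv D := by
  obtain ⟨U, hU, hyU, hUinv⟩ := H y
  obtain ⟨b, hb, hyb⟩ := hU.exists_basicOpen_le (V := V) ⟨y, hy⟩ hyU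
  exact ⟨Y.basicOpen b, hyb, hb, InvOn.basicOpen hinv hU hUinv b⟩

theorem injective_app (V : Y.Opens) : Function.Injective (p.app V) := by
  choose D hyD hDV hD using fun y : V => exists_invOn_le hinv H y.2
  intro s t hst
  refine TopCat.Sheaf.eq_of_locally_eq' Y.sheaf D V (fun y => homOfLE (hDV y))
    (fun y hy => Opens.mem_iSup.2 ⟨⟨y, hy⟩, hyD _⟩) s t fun y => (hD y).1 ?_
  exact (res_app (hDV y) s).symm.trans ((congrArg (res (hDV y)) hst).trans (res_app (hDV y) t))

theorem invOn (V : Y.Opens) : InvOn hinv V := by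
  refine ⟨injective_app hinv H V, fun s hs => ?_⟩
  choose D hyD hDV hD using fun y : V => exists_invOn_le hinv H y.2
  have hloc : ∀ y : V, ∃ t, p.app (D y) t = res (hDV y) s := fun y =>
    (hD y).2 _ fun g => by rw [← res_sectionHom hinv, hs]
  choose t ht using hloc
  have hcov : V ≤ iSup D := fun y hy => Opens.mem_iSup.2 ⟨⟨y, hy⟩, hyD _⟩
  obtain ⟨τ, hτ, -⟩ := TopCat.Sheaf.existsUnique_gluing' Y.sheaf D V (fun y => homOfLE (hDV y)) hcov t
    fun i j => injective_app hinv H _ <| by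
      refine ((res_app inf_le_left (t i)).symm.trans ?_).trans (res_app inf_le_right (t j))
      rw [ht, ht, res_res, res_res]
  refine ⟨τ, TopCat.Sheaf.eq_of_locally_eq' X.sheaf (fun y => p ⁻¹ᵁ D y) (p ⁻¹ᵁ V)
    (fun y => homOfLE (p.preimage_mono (hDV y)))
    (fun x hx => Opens.mem_iSup.2 ⟨⟨p x, hx⟩, hyD _⟩) _ _ fun y => ?_⟩
  exact (res_app (hDV y) τ).trans ((congrArg (p.app (D y)) (hτ y)).trans (ht y))

/-- An affine invariant morphism which is a quotient over an affine cover is a quotient. -/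
theorem isQuot_of_local : SGA1.IsQuot ρ p where
  affine := inferInstance
  inv := hinv
  injective U := injective_app hinv H U
  range_iff U s := by
    refine ⟨fun ⟨t, ht⟩ => (forall_smul_iff hinv U s).1 fun g => ht ▸ sectionHom_app hinv U g t, fun hs => ?_⟩
    exact (invOn hinv H U).2 s ((forall_smul_iff hinv U s).2 hs)

end Groth.Pi1Quot
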