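import Groth.Agent.Pi1Quot.Local
import Groth.Agent.Pi1Quot.Descend
import Groth.Agent.S2925
import Groth.Agent.S13606
import Mathlib.AlgebraicGeometry.Gluing

/-!
# Existence of quotients of schemes by finite groups
-/

universe u

set_option autoImplicit false
set_option backward.isDefEq.respectTransparency false

open CategoryTheory Limits AlgebraicGeometry TopologicalSpace

namespace Groth.Pi1Quot

variable {X : Scheme.{u}} {G : Type u} [Group G] (ρ : G →* Aut X)

/-- A `G`-stable open. -/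
def Stable (W : X.Opens) : Prop := ∀ g : G, W ≤ (ρ g).hom ⁻¹ᵁ W

theorem inv_apply (g : G) (x : X) : (ρ g⁻¹).hom ((ρ g).hom x) = x := by
  rw [← Scheme.Hom.comp_apply]
  have : (ρ g).hom ≫ (ρ g⁻¹).hom = 𝟙 X := by rw [map_inv, Aut.Aut_inv_def]; exact (ρ g).hom_inv_id
  rw [this]; rfl

theorem mul_apply (g h : G) (x : X) : (ρ (g * h)).hom x = (ρ g).hom ((ρ h).hom x) := by
  rw [map_mul, Aut.Aut_mul_def, Iso.trans_hom, Scheme.Hom.comp_apply]

theorem one_apply (x : X) : (ρ 1).hom x = x := by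
  rw [map_one]; rfl

variable {ρ} in
theorem Stable.mem_iff {W : X.Opens} (hW : Stable ρ W) (g : G) (x : X) : (ρ g).hom x ∈ W ↔ x ∈ W :=
  ⟨fun h => inv_apply ρ g x ▸ hW g⁻¹ h, fun h => hW g h⟩

theorem resLE_congr_hom {Y : Scheme.{u}} {f f' : X ⟶ Y} (h : f = f') (U : Y.Opens) (V : X.Opens)
    (e : V ≤ f ⁻¹ᵁ U) (e' : V ≤ f' ⁻¹ᵁ U) : f.resLE U V e = f'.resLE U V e' := by subst h; rfl

/-- Automorphism of a stable open. -/
noncomputable def restrictAut {W : X.Opens} (hW : Stable ρ W) (g : G) : Aut W.toScheme where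
  hom := (ρ g).hom.resLE W W (hW g)
  inv := (ρ g⁻¹).hom.resLE W W (hW g⁻¹)
  hom_inv_id := by
    rw [← cancel_mono W.ι, Category.assoc, Scheme.Hom.resLE_comp_ι, Scheme.Hom.resLE_comp_ι_assoc,
      map_inv, Aut.Aut_inv_def]
    simp
  inv_hom_id := by
    rw [← cancel_mono W.ι, Category.assoc, Scheme.Hom.resLE_comp_ι, Scheme.Hom.resLE_comp_ι_assoc,
      map_inv, Aut.Aut_inv_def]
    simp

/-- The action on a stable open. -/
noncomputable def restrictAct {W : X.Opens} (hW : Stable ρ W) : G →* Aut W.toScheme where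
  toFun := restrictAut ρ hW
  map_one' := Iso.ext <| by
    rw [← cancel_mono W.ι]
    change (ρ 1).hom.resLE W W (hW 1) ≫ W.ι = 𝟙 _ ≫ W.ι
    rw [Scheme.Hom.resLE_comp_ι, map_one, Category.id_comp]
    exact Category.comp_id _
  map_mul' g h := Iso.ext <| by
    rw [← cancel_mono W.ι]
    change (ρ (g * h)).hom.resLE W W (hW _) ≫ W.ι =
      ((ρ h).hom.resLE W W (hW h) ≫ (ρ g).hom.resLE W W (hW g)) ≫ W.ι
    rw [Category.assoc, Scheme.Hom.resLE_comp_ι, Scheme.Hom.resLE_comp_ι, Scheme.Hom.resLE_comp_ι_assoc,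
      map_mul, Aut.Aut_mul_def, Iso.trans_hom]

theorem restrictAct_ι {W : X.Opens} (hW : Stable ρ W) (g : G) :
    (restrictAct ρ hW g).hom ≫ W.ι = W.ι ≫ (ρ g).hom :=
  Scheme.Hom.resLE_comp_ι _ _

theorem restrictAct_apply {W : X.Opens} (hW : Stable ρ W) (g : G) (x : W.toScheme) :
    W.ι ((restrictAct ρ hW g).hom x) = (ρ g).hom (W.ι x) := by
  rw [← Scheme.Hom.comp_apply, restrictAct_ι, Scheme.Hom.comp_apply]

theorem ι_homOfLE_apply {V W : X.Opens} (h : V ≤ W) (z : V.toScheme) : W.ι (X.homOfLE h z) = V.ι z := by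
  rw [← Scheme.Hom.comp_apply, Scheme.homOfLE_ι]

theorem restrictAct_homOfLE {V W : X.Opens} (hV : Stable ρ V) (hW : Stable ρ W) (h : V ≤ W) (g : G) :
    (restrictAct ρ hV g).hom ≫ X.homOfLE h = X.homOfLE h ≫ (restrictAct ρ hW g).hom := by
  rw [← cancel_mono W.ι, Category.assoc, Category.assoc, Scheme.homOfLE_ι, restrictAct_ι,
    restrictAct_ι, Scheme.homOfLE_ι_assoc]

section Affine

variable {S : Scheme.{u}} (σ : G →* Aut S)

/-- Invariant global functions. -/
noncomputable def invRing : Subring Γ(S, ⊤) :=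
  ⨅ g : G, RingHom.eqLocus (σ g).hom.appTop.hom (RingHom.id _)

theorem mem_invRing {s : Γ(S, ⊤)} : s ∈ invRing σ ↔ ∀ g, (σ g).hom.appTop s = s := by
  simp only [invRing, Subring.mem_iInf]; rfl

/-- The affine quotient. -/
noncomputable def affQuot : S ⟶ Spec (CommRingCat.of (invRing σ)) :=
  S.toSpecΓ ≫ Spec.map (CommRingCat.ofHom (invRing σ).subtype)

theorem affQuot_inv (g : G) : (σ g).hom ≫ affQuot σ = affQuot σ := by
  rw [affQuot, Scheme.toSpecΓ_naturality_assoc, ← Spec.map_comp]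
  congr 2
  ext s
  exact (mem_invRing σ).1 s.2 g

theorem affQuot_appTop : (affQuot σ).appTop =
    (Scheme.ΓSpecIso (CommRingCat.of (invRing σ))).hom ≫ CommRingCat.ofHom (invRing σ).subtype := by
  rw [affQuot, Scheme.Hom.comp_appTop, Scheme.toSpecΓ_appTop, Scheme.ΓSpecIso_naturality]

theorem isQuot_affQuot [Finite G] [IsAffine S] : SGA1.IsQuot σ (affQuot σ) := by
  haveI : IsAffineHom (affQuot σ) := isAffineHom_of_isAffine _
  refine isQuot_of_local (affQuot_inv σ) fun y => ⟨⊤, isAffineOpen_top _, trivial, ?_, fun s hs => ?_⟩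
  · change Function.Injective (affQuot σ).appTop
    rw [affQuot_appTop]
    exact Subtype.val_injective.comp
      (Scheme.ΓSpecIso (CommRingCat.of (invRing σ))).commRingCatIsoToRingEquiv.injective
  · have hmem : s ∈ invRing σ := (mem_invRing σ).2 fun g => by
      have := (forall_smul_iff (affQuot_inv σ) ⊤ s).1 hs g
      rwa [show (σ g).hom.appLE ((affQuot σ) ⁻¹ᵁ ⊤) ((affQuot σ) ⁻¹ᵁ ⊤) _ = (σ g).hom.appTop from
        Scheme.Hom.appLE_eq_app (f := (σ g).hom) (U := (affQuot σ) ⁻¹ᵁ ⊤)] at this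
    refine ⟨(Scheme.ΓSpecIso (CommRingCat.of (invRing σ))).inv ⟨s, hmem⟩, ?_⟩
    change (affQuot σ).appTop _ = s
    rw [affQuot_appTop]
    exact congrArg Subtype.val
      ((Scheme.ΓSpecIso (CommRingCat.of (invRing σ))).commRingCatIsoToRingEquiv.apply_symm_apply ⟨s, hmem⟩)

end Affine

theorem isAffineOpen_inf {U A B : X.Opens} (hU : IsAffineOpen U) (hA : IsAffineOpen A) (hB : IsAffineOpen B)
    (hAU : A ≤ U) (hBU : B ≤ U) : IsAffineOpen (A ⊓ B) := by
  haveI : IsAffine U.toScheme := hU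
  have key : ∀ C : X.Opens, C ≤ U → U.ι ''ᵁ (U.ι ⁻¹ᵁ C) = C := fun C hC => by
    rw [Scheme.Hom.image_preimage_eq_opensRange_inf, Scheme.Opens.opensRange_ι, inf_eq_right.2 hC]
  have pre : ∀ C : X.Opens, C ≤ U → IsAffineOpen C → IsAffineOpen (U.ι ⁻¹ᵁ C) := fun C hC hCa => by
    rw [← Scheme.Hom.isAffineOpen_iff_of_isOpenImmersion U.ι, key C hC]; exact hCa
  have h := (pre A hAU hA).inf (pre B hBU hB)
  rw [← Scheme.Hom.preimage_inf, ← Scheme.Hom.isAffineOpen_iff_of_isOpenImmersion U.ι,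
    key _ (inf_le_left.trans hAU)] at h
  exact h

variable [Finite G]

variable {ρ} in
/-- A stable open contains, around each point whose orbit lies in an affine open, a stable affine open. -/
theorem exists_stableAffine {O : X.Opens} (hO : Stable ρ O) {x : X} (hx : x ∈ O)
    (h : ∃ U : X.Opens, IsAffineOpen U ∧ ∀ g : G, (ρ g).hom x ∈ U) :
    ∃ W : X.Opens, x ∈ W ∧ W ≤ O ∧ IsAffineOpen W ∧ Stable ρ W := by
  cases nonempty_fintype G
  obtain ⟨U, hU, hUx⟩ := h
  have hne : (Finset.univ : Finset G).Nonempty := Finset.univ_nonempty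
  -- the stable part of `U` inside `O`
  set U' : X.Opens := O ⊓ Finset.univ.inf' hne (fun g => (ρ g).hom ⁻¹ᵁ U) with hU'
  have memInf : ∀ (A : X.Opens) (z : X), (∀ g, (ρ g).hom z ∈ A) →
      z ∈ Finset.univ.inf' hne (fun g => (ρ g).hom ⁻¹ᵁ A) := fun A z hz =>
    Finset.inf'_induction (p := fun B : X.Opens => z ∈ B) hne _ (fun a ha b hb => ⟨ha, hb⟩) fun g _ => hz g
  have infMem : ∀ (A : X.Opens) (z : X), z ∈ Finset.univ.inf' hne (fun g => (ρ g).hom ⁻¹ᵁ A) →
      ∀ g, (ρ g).hom z ∈ A := fun A z hz g =>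
    (Finset.inf'_le (fun g => (ρ g).hom ⁻¹ᵁ A) (Finset.mem_univ g)) hz
  have hU'U : U' ≤ U := fun z hz => by
    have := infMem U z hz.2 1
    rwa [one_apply] at this
  have hU'st : Stable ρ U' := fun g z hz =>
    ⟨hO g hz.1, memInf U _ fun k => by rw [← mul_apply]; exact infMem U z hz.2 _⟩
  have horb : ∀ g, (ρ g).hom x ∈ U' := fun g =>
    ⟨hO g hx, memInf U _ fun k => by rw [← mul_apply]; exact hUx _⟩
  -- prime avoidance
  let J : Ideal Γ(X, U) :=
    { carrier := {f | X.basicOpen f ≤ U'}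
      zero_mem' := by simp
      add_mem' := fun {a b} ha hb z hz => by
        by_contra hz'
        have hzU : z ∈ U := X.basicOpen_le _ hz
        refine (X.evaluation_ne_zero_iff_mem_basicOpen z hzU (a + b)).2 hz ?_
        rw [map_add, (X.evaluation_eq_zero_iff_notMem_basicOpen z hzU a).2 fun h => hz' (ha h),
          (X.evaluation_eq_zero_iff_notMem_basicOpen z hzU b).2 fun h => hz' (hb h), add_zero]
      smul_mem' := fun c a ha => by
        change X.basicOpen (c * a) ≤ U'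
        rw [X.basicOpen_mul]; exact inf_le_right.trans ha }
  let P : G → Ideal Γ(X, U) := fun g =>
    RingHom.ker (X.evaluation U ((ρ g).hom x) (hUx g)).hom
  obtain ⟨f, hfJ, hfP⟩ : ∃ f ∈ J, ∀ g, f ∉ P g := by
    by_contra hcon
    push Not at hcon
    have hsub : (J : Set Γ(X, U)) ⊆ ⋃ g ∈ (↑(Finset.univ : Finset G) : Set G), (P g : Set Γ(X, U)) := by
      intro f hf
      obtain ⟨g, hg⟩ := hcon f hf
      simp only [Set.mem_iUnion]
      exact ⟨g, by simp, hg⟩
    obtain ⟨g, -, hg⟩ := (Ideal.subset_union_prime (f := P) (1 : G) (1 : G)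
      (fun g _ _ _ => RingHom.ker_isPrime _)).1 hsub
    obtain ⟨f, hf, hxf⟩ := hU.exists_basicOpen_le (V := U') ⟨_, horb g⟩ (hUx g)
    exact (X.evaluation_ne_zero_iff_mem_basicOpen _ (hUx g) f).2 hxf (hg (show f ∈ J from hf))
  have hxD : ∀ g, (ρ g).hom x ∈ X.basicOpen f := fun g =>
    (X.evaluation_ne_zero_iff_mem_basicOpen _ (hUx g) f).1 (hfP g)
  refine ⟨Finset.univ.inf' hne (fun g => (ρ g).hom ⁻¹ᵁ X.basicOpen f), memInf _ x hxD, ?_, ?_, ?_⟩
  · intro z hz
    have := infMem _ z hz 1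
    rw [one_apply] at this
    exact (hfJ this).1
  · refine (Finset.inf'_induction (p := fun B : X.Opens => IsAffineOpen B ∧ B ≤ U) hne _
      (fun a ha b hb => ⟨isAffineOpen_inf hU ha.1 hb.1 ha.2 hb.2, inf_le_left.trans ha.2⟩)
      fun g _ => ⟨(hU.basicOpen f).preimage_of_isIso _, ?_⟩).1
    exact fun z hz => hU'U ((hU'st.mem_iff g z).1 (hfJ hz))
  · exact fun g z hz => memInf _ _ fun k => by rw [← mul_apply]; exact infMem _ z hz _

section Glue

/-- Stable affine opens. -/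
abbrev Chart : Type u := {W : X.Opens // IsAffineOpen W ∧ Stable ρ W}

variable {ρ} (i j : Chart ρ)

/-- The action on a chart. -/
noncomputable abbrev chartAct : G →* Aut i.1.toScheme := restrictAct ρ i.2.2

/-- The quotient of a chart. -/
noncomputable abbrev chartObj : Scheme.{u} := Spec (CommRingCat.of (invRing (chartAct i)))

/-- The projection of a chart to its quotient. -/
noncomputable abbrev chartMap : i.1.toScheme ⟶ chartObj i := affQuot (chartAct i)

theorem isQuot_chartMap : SGA1.IsQuot (chartAct i) (chartMap i) :=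
  haveI : IsAffine i.1.toScheme := i.2.1
  isQuot_affQuot _

variable {i j}

theorem exists_trans (h : i ≤ j) :
    ∃! t : chartObj i ⟶ chartObj j, chartMap i ≫ t = X.homOfLE h ≫ chartMap j :=
  Groth.Agent.S2925.result _ _ (isQuot_chartMap i) _ _ fun g => by
    rw [← Category.assoc, restrictAct_homOfLE ρ i.2.2 j.2.2 h g, Category.assoc, affQuot_inv]

/-- Transition maps between quotients of charts. -/
noncomputable def trans (h : i ≤ j) : chartObj i ⟶ chartObj j := (exists_trans h).choose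

theorem chartMap_trans (h : i ≤ j) : chartMap i ≫ trans h = X.homOfLE h ≫ chartMap j :=
  (exists_trans h).choose_spec.1

theorem trans_unique (h : i ≤ j) {t : chartObj i ⟶ chartObj j}
    (ht : chartMap i ≫ t = X.homOfLE h ≫ chartMap j) : t = trans h :=
  (exists_trans h).choose_spec.2 t ht

theorem chartMap_surjective (i : Chart ρ) : Function.Surjective (chartMap i) :=
  (surjective (isQuot_chartMap i)).surj

instance isOpenImmersion_trans (h : i ≤ j) : IsOpenImmersion (trans h) := by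
  haveI := (isQuot_chartMap j).affine
  have hq := isQuot_chartMap j
  let A : j.1.toScheme.Opens := (X.homOfLE h).opensRange
  have hA : ∀ (g : G) (z : j.1.toScheme), z ∈ A → (chartAct j g).hom z ∈ A := by
    rintro g _ ⟨w, rfl⟩
    refine ⟨(chartAct i g).hom w, ?_⟩
    rw [← Scheme.Hom.comp_apply, restrictAct_homOfLE ρ i.2.2 j.2.2 h g, Scheme.Hom.comp_apply]
  have hpre : chartMap j ⁻¹' (chartMap j '' (A : Set j.1.toScheme)) = A := by
    refine subset_antisymm ?_ (Set.subset_preimage_image _ _)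
    rintro z ⟨w, hw, hwz⟩
    obtain ⟨g, rfl⟩ := exists_smul_eq hq hwz
    exact hA g w hw
  let V : (chartObj j).Opens := ⟨chartMap j '' (A : Set j.1.toScheme),
    (isQuotientMap hq).isOpen_preimage.1 (hpre.symm ▸ A.isOpen)⟩
  have hV : chartMap j ⁻¹ᵁ V = A := Opens.ext hpre
  have hst : Stable (chartAct j) (chartMap j ⁻¹ᵁ V) := fun g => SGA1.preimage_le_of_inv _ _ hq.inv g V
  have hqV : SGA1.IsQuot (restrictAct (chartAct j) hst) (chartMap j ∣_ V) :=
    Groth.Agent.S13606.result _ _ hq V _ (restrictAct_ι _ hst)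
  let e : i.1.toScheme ⟶ (chartMap j ⁻¹ᵁ V).toScheme :=
    IsOpenImmersion.lift (chartMap j ⁻¹ᵁ V).ι (X.homOfLE h) (by
      rw [Scheme.Opens.range_ι, hV]; exact subset_rfl)
  have he : e ≫ (chartMap j ⁻¹ᵁ V).ι = X.homOfLE h := IsOpenImmersion.lift_fac _ _ _
  let e' : (chartMap j ⁻¹ᵁ V).toScheme ⟶ i.1.toScheme :=
    IsOpenImmersion.lift (X.homOfLE h) (chartMap j ⁻¹ᵁ V).ι (by
      rw [Scheme.Opens.range_ι, hV]; exact subset_rfl)
  have he' : e' ≫ X.homOfLE h = (chartMap j ⁻¹ᵁ V).ι := IsOpenImmersion.lift_fac _ _ _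
  have hee' : e ≫ e' = 𝟙 _ := by rw [← cancel_mono (X.homOfLE h), Category.assoc, he', he, Category.id_comp]
  have he'e : e' ≫ e = 𝟙 _ := by
    rw [← cancel_mono (chartMap j ⁻¹ᵁ V).ι, Category.assoc, he, he', Category.id_comp]
  obtain ⟨s, hs, -⟩ := Groth.Agent.S2925.result _ _ hqV _ (e' ≫ chartMap i) fun g => by
    have : (restrictAct (chartAct j) hst g).hom ≫ e' = e' ≫ (chartAct i g).hom := by
      rw [← cancel_mono (X.homOfLE h), Category.assoc, Category.assoc, he', restrictAct_ι,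
        restrictAct_homOfLE ρ i.2.2 j.2.2 h g, reassoc_of% he']
    rw [reassoc_of% this, affQuot_inv]
  obtain ⟨t', ht', -⟩ := Groth.Agent.S2925.result _ _ (isQuot_chartMap i) _ (e ≫ (chartMap j ∣_ V)) fun g => by
    have : (chartAct i g).hom ≫ e = e ≫ (restrictAct (chartAct j) hst g).hom := by
      rw [← cancel_mono (chartMap j ⁻¹ᵁ V).ι, Category.assoc, Category.assoc, he, restrictAct_ι,
        restrictAct_homOfLE ρ i.2.2 j.2.2 h g, reassoc_of% he]
    rw [reassoc_of% this, hqV.inv]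
  have h1 : t' ≫ s = 𝟙 _ := eq_of_comp_eq (chartMap i) (chartMap_surjective i) (isQuot_chartMap i).injective (by
    rw [reassoc_of% ht', hs, reassoc_of% hee', Category.comp_id])
  have h2 : s ≫ t' = 𝟙 _ := eq_of_comp_eq (chartMap j ∣_ V) (surjective hqV).surj hqV.injective (by
    rw [reassoc_of% hs, ht', reassoc_of% he'e, Category.comp_id])
  haveI : IsIso t' := ⟨s, h1, h2⟩
  have : t' ≫ V.ι = trans h := trans_unique h (by
    rw [reassoc_of% ht', morphismRestrict_ι, reassoc_of% he])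
  rw [← this]; infer_instance

/-- The diagram of the quotients of the charts. -/
noncomputable def diagram (ρ : G →* Aut X) : Chart ρ ⥤ Scheme.{u} where
  obj i := chartObj i
  map f := trans (leOfHom f)
  map_id i := (trans_unique _ (by rw [Category.comp_id, Scheme.homOfLE_rfl, Category.id_comp])).symm
  map_comp {i j k} f g := (trans_unique _ (by
    rw [reassoc_of% (chartMap_trans (leOfHom f)), chartMap_trans, Scheme.homOfLE_homOfLE_assoc])).symm

instance {i j : Chart ρ} (f : i ⟶ j) : IsOpenImmersion ((diagram ρ).map f) := isOpenImmersion_trans _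

variable (hρ : ∀ x : X, ∃ U : X.Opens, IsAffineOpen U ∧ ∀ g : G, (ρ g).hom x ∈ U)
include hρ

theorem exists_chart_le {O : X.Opens} (hO : Stable ρ O) {x : X} (hx : x ∈ O) :
    ∃ l : Chart ρ, x ∈ l.1 ∧ l.1 ≤ O := by
  obtain ⟨W, hxW, hWO, hW⟩ := exists_stableAffine hO hx (hρ x)
  exact ⟨⟨W, hW⟩, hxW, hWO⟩

theorem isLocallyDirected : (diagram ρ ⋙ Scheme.forget).IsLocallyDirected := by
  constructor
  intro i j k fi fj yi yj hy
  obtain ⟨wi, rfl⟩ := chartMap_surjective i yi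
  obtain ⟨wj, rfl⟩ := chartMap_surjective j yj
  have hy' : trans (leOfHom fi) (chartMap i wi) = trans (leOfHom fj) (chartMap j wj) := hy
  rw [← Scheme.Hom.comp_apply, ← Scheme.Hom.comp_apply, chartMap_trans, chartMap_trans,
    Scheme.Hom.comp_apply, Scheme.Hom.comp_apply] at hy'
  obtain ⟨g, hg⟩ := exists_smul_eq (isQuot_chartMap k) hy'
  have hxx : (ρ g).hom (i.1.ι wi) = j.1.ι wj := by
    have := congrArg k.1.ι hg
    rw [restrictAct_apply, ι_homOfLE_apply, ι_homOfLE_apply] at this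
    exact this
  have hxi : i.1.ι wi ∈ i.1 := wi.2
  have hxj : i.1.ι wi ∈ j.1 := (j.2.2.mem_iff g _).1 (hxx ▸ wj.2)
  obtain ⟨l, hxl, hl⟩ := exists_chart_le hρ (O := i.1 ⊓ j.1)
    (fun g z hz => ⟨i.2.2 g hz.1, j.2.2 g hz.2⟩) ⟨hxi, hxj⟩
  have hli : l ≤ i := hl.trans inf_le_left
  have hlj : l ≤ j := hl.trans inf_le_right
  refine ⟨l, homOfLE hli, homOfLE hlj, chartMap l ⟨_, hxl⟩, ?_, ?_⟩
  · change trans hli (chartMap l _) = chartMap i wi
    rw [← Scheme.Hom.comp_apply, chartMap_trans, Scheme.Hom.comp_apply]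
    congr 1
    apply i.1.ι.isOpenEmbedding.injective
    rw [ι_homOfLE_apply]; rfl
  · change trans hlj (chartMap l _) = chartMap j wj
    rw [← Scheme.Hom.comp_apply, chartMap_trans, Scheme.Hom.comp_apply]
    have : (restrictAct ρ j.2.2 g).hom (X.homOfLE hlj ⟨_, hxl⟩) = wj := by
      apply j.1.ι.isOpenEmbedding.injective
      rw [restrictAct_apply, ι_homOfLE_apply]
      exact hxx
    rw [← this, apply_smul (isQuot_chartMap j)]

theorem exists_isQuot : ∃ (Y : Scheme.{u}) (p : X ⟶ Y), SGA1.IsQuot ρ p := by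
  haveI := isLocallyDirected hρ
  let D := diagram ρ
  let Y := colimit D
  let ιY : ∀ i : Chart ρ, chartObj i ⟶ Y := fun i => colimit.ι D i
  have hw : ∀ {l i : Chart ρ} (h : l ≤ i), trans h ≫ ιY i = ιY l := fun h => colimit.w D (homOfLE h)
  have hstTop : Stable ρ ⊤ := fun _ _ _ => trivial
  have hsup : ⨆ i : Chart ρ, i.1 = ⊤ := eq_top_iff.2 fun x _ => by
    obtain ⟨l, hxl, -⟩ := exists_chart_le hρ hstTop (x := x) trivial
    exact Opens.mem_iSup.2 ⟨l, hxl⟩
  let 𝒰 : X.OpenCover := X.openCoverOfIsOpenCover (fun i : Chart ρ => i.1) hsup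
  have hag : ∀ i j : Chart ρ, pullback.fst i.1.ι j.1.ι ≫ chartMap i ≫ ιY i =
      pullback.snd i.1.ι j.1.ι ≫ chartMap j ≫ ιY j := by
    intro i j
    let P := pullback i.1.ι j.1.ι
    let m : P ⟶ X := pullback.fst i.1.ι j.1.ι ≫ i.1.ι
    let I := {l : Chart ρ // l.1 ≤ i.1 ⊓ j.1}
    refine (P.openCoverOfIsOpenCover (fun l : I => m ⁻¹ᵁ l.1.1) ?_).hom_ext _ _ fun (l : I) => ?_
    · refine eq_top_iff.2 fun z _ => ?_
      have hi : m z ∈ i.1 := ((pullback.fst i.1.ι j.1.ι) z).2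
      have hj : m z ∈ j.1 := by
        change (pullback.fst i.1.ι j.1.ι ≫ i.1.ι) z ∈ j.1
        rw [pullback.condition]
        exact ((pullback.snd i.1.ι j.1.ι) z).2
      obtain ⟨l, hzl, hl⟩ := exists_chart_le hρ (O := i.1 ⊓ j.1)
        (fun g z hz => ⟨i.2.2 g hz.1, j.2.2 g hz.2⟩) ⟨hi, hj⟩
      exact Opens.mem_iSup.2 ⟨⟨l, hl⟩, hzl⟩
    · change (m ⁻¹ᵁ l.1.1).ι ≫ _ = (m ⁻¹ᵁ l.1.1).ι ≫ _
      have hli : l.1 ≤ i := l.2.trans inf_le_left
      have hlj : l.1 ≤ j := l.2.trans inf_le_right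
      have e1 : (m ⁻¹ᵁ l.1.1).ι ≫ pullback.fst i.1.ι j.1.ι = m ∣_ l.1.1 ≫ X.homOfLE hli := by
        rw [← cancel_mono i.1.ι, Category.assoc, Category.assoc, Scheme.homOfLE_ι, morphismRestrict_ι]
      have e2 : (m ⁻¹ᵁ l.1.1).ι ≫ pullback.snd i.1.ι j.1.ι = m ∣_ l.1.1 ≫ X.homOfLE hlj := by
        rw [← cancel_mono j.1.ι, Category.assoc, Category.assoc, Scheme.homOfLE_ι, morphismRestrict_ι,
          ← pullback.condition]
      rw [reassoc_of% e1, reassoc_of% e2, ← reassoc_of% (chartMap_trans hli),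
        ← reassoc_of% (chartMap_trans hlj), hw, hw]
  let p : X ⟶ Y := 𝒰.glueMorphisms (fun i => chartMap i ≫ ιY i) hag
  have hp : ∀ i : Chart ρ, i.1.ι ≫ p = chartMap i ≫ ιY i := fun i => 𝒰.ι_glueMorphisms _ hag i
  have hinv : ∀ g, (ρ g).hom ≫ p = p := fun g => 𝒰.hom_ext _ _ fun (i : Chart ρ) => by
    change i.1.ι ≫ _ = i.1.ι ≫ p
    rw [← reassoc_of% (restrictAct_ι ρ i.2.2 g), hp, reassoc_of% (affQuot_inv (chartAct i) g)]
  haveI : ∀ i, IsOpenImmersion (ιY i) := fun i => inferInstanceAs (IsOpenImmersion (colimit.ι D i))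
  let V : Chart ρ → Y.Opens := fun i => (ιY i).opensRange
  have hpre : ∀ i : Chart ρ, p ⁻¹ᵁ V i = i.1 := by
    intro i
    ext x
    constructor
    · rintro ⟨y, hy⟩
      obtain ⟨k, hxk, -⟩ := exists_chart_le hρ hstTop (x := x) trivial
      have e : p x = ιY k (chartMap k ⟨x, hxk⟩) := by
        rw [← Scheme.Hom.comp_apply, ← hp k]; rfl
      obtain ⟨l, fi, fk, z, hzi, hzk⟩ := (Scheme.IsLocallyDirected.ι_eq_ι_iff D).1
        (show colimit.ι D i y = colimit.ι D k (chartMap k ⟨x, hxk⟩) from hy.trans e)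
      obtain ⟨w, rfl⟩ := chartMap_surjective l z
      replace hzk : trans (leOfHom fk) (chartMap l w) = chartMap k ⟨x, hxk⟩ := hzk
      rw [← Scheme.Hom.comp_apply, chartMap_trans, Scheme.Hom.comp_apply] at hzk
      obtain ⟨g, hg⟩ := exists_smul_eq (isQuot_chartMap k) hzk
      have := congrArg k.1.ι hg
      rw [restrictAct_apply, ι_homOfLE_apply] at this
      change x ∈ i.1
      rw [show x = (ρ g).hom (l.1.ι w) from this.symm]
      exact i.2.2 g (leOfHom fi w.2)
    · intro hx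
      refine ⟨chartMap i ⟨x, hx⟩, ?_⟩
      change ιY i (chartMap i ⟨x, hx⟩) = p x
      rw [← Scheme.Hom.comp_apply, ← hp i]; rfl
  have hcov : ∀ y : Y, ∃ i, y ∈ V i := fun y => by
    obtain ⟨i, yi, hi⟩ := Scheme.IsLocallyDirected.ι_jointly_surjective D y
    exact ⟨i, yi, hi⟩
  have hVaff : ∀ i, IsAffineOpen (V i) := fun i => isAffineOpen_opensRange (ιY i)
  haveI : IsAffineHom p := isAffineHom_of_forall_exists_isAffineOpen _ fun y => by
    obtain ⟨i, hi⟩ := hcov y
    exact ⟨V i, hi, hVaff i, by rw [hpre]; exact i.2.1⟩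
  refine ⟨Y, p, isQuot_of_local hinv fun y => ?_⟩
  obtain ⟨i, hi⟩ := hcov y
  refine ⟨V i, hVaff i, hi, ?_⟩
  haveI := (isQuot_chartMap i).affine
  have hq := isQuot_chartMap i
  have eV : (⊤ : (chartObj i).Opens) ≤ ιY i ⁻¹ᵁ V i := fun z _ => ⟨z, rfl⟩
  have eW : (⊤ : i.1.toScheme.Opens) ≤ i.1.ι ⁻¹ᵁ (p ⁻¹ᵁ V i) := fun z _ => by
    change i.1.ι z ∈ p ⁻¹ᵁ V i
    rw [hpre]; exact z.2
  let a := (ιY i).appLE (V i) ⊤ eV
  let b := i.1.ι.appLE (p ⁻¹ᵁ V i) ⊤ eW
  have sq : p.app (V i) ≫ b = a ≫ (chartMap i).appTop := by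
    have h1 := Scheme.Hom.appLE_comp_appLE i.1.ι p (V i) (p ⁻¹ᵁ V i) ⊤ le_rfl eW
    rw [Scheme.Hom.appLE_eq_app, appLE_congr_hom (hp i) _ _ _
      (show (⊤ : i.1.toScheme.Opens) ≤ (chartMap i ≫ ιY i) ⁻¹ᵁ V i from fun z _ => eV trivial)] at h1
    rw [h1, ← Scheme.Hom.appLE_comp_appLE (chartMap i) (ιY i) (V i) ⊤ ⊤ eV (fun _ _ => trivial)]
    exact congrArg (a ≫ ·) (Scheme.Hom.appLE_eq_app (chartMap i))
  have haB : Function.Bijective a := by
    have : IsIso a := by
      have he : (⊤ : (chartObj i).Opens) = ιY i ⁻¹ᵁ V i := le_antisymm eV le_top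
      dsimp only [a, Scheme.Hom.appLE]
      haveI := (ιY i).isIso_app (V i) le_rfl
      rw [show homOfLE eV = eqToHom he from Subsingleton.elim _ _]
      infer_instance
    exact ConcreteCategory.bijective_of_isIso a
  have hbB : Function.Bijective b := by
    have : IsIso b := by
      dsimp only [b]
      rw [Scheme.Opens.ι_appLE]
      have e : i.1.ι ''ᵁ ⊤ = p ⁻¹ᵁ V i := by rw [Scheme.Opens.ι_image_top, hpre]
      rw [show homOfLE _ = eqToHom e from Subsingleton.elim _ _]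
      infer_instance
    exact ConcreteCategory.bijective_of_isIso b
  have sq' : ∀ c, b (p.app (V i) c) = (chartMap i).appTop (a c) := fun c =>
    RingHom.congr_fun (congrArg CommRingCat.Hom.hom sq) c
  refine ⟨fun c c' hcc => haB.1 (hq.injective ⊤ ?_), fun s hs => ?_⟩
  · change (chartMap i).appTop (a c) = (chartMap i).appTop (a c')
    rw [← sq', ← sq', hcc]
  · have hs' := (forall_smul_iff hinv (V i) s).1 hs
    have hbs : b s ∈ Set.range ((chartMap i).app ⊤).hom := by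
      refine (hq.range_iff ⊤ (b s)).2 fun g => ?_
      have h1 := Scheme.Hom.appLE_comp_appLE (chartAct i g).hom i.1.ι (p ⁻¹ᵁ V i) ⊤ ⊤ eW
        (fun _ _ => trivial)
      have h2 := Scheme.Hom.appLE_comp_appLE i.1.ι (ρ g).hom (p ⁻¹ᵁ V i) (p ⁻¹ᵁ V i) ⊤
        (SGA1.preimage_le_of_inv ρ p hinv g (V i)) eW
      have h3 := h1.trans ((appLE_congr_hom (restrictAct_ι ρ i.2.2 g) _ _ _ _).trans h2.symm)
      have h4 := RingHom.congr_fun (congrArg CommRingCat.Hom.hom h3) s
      simp only [CommRingCat.hom_comp, RingHom.comp_apply, hs' g] at h4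
      exact h4
    obtain ⟨d, hd⟩ := hbs
    obtain ⟨c, rfl⟩ := haB.2 d
    exact ⟨c, hbB.1 ((sq' c).trans hd)⟩

end Glue

end Groth.Pi1Quot
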