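import Groth.Agent.Pi1Quot.Basic
import Groth.Agent.Pi1Quot.Galois
import Groth.Agent.Pi1Etale.EqLocus
import Groth.Agent.Pi1FEt.Points
import Mathlib.AlgebraicGeometry.Morphisms.Flat
import Mathlib.AlgebraicGeometry.Morphisms.Etale

/-!
# Quotients by free actions of finite groups
-/

universe u

set_option autoImplicit false
set_option backward.isDefEq.respectTransparency false

open CategoryTheory Limits AlgebraicGeometry TensorProduct

namespace Groth.Pi1Quot

variable {X Y : Scheme.{u}} {G : Type u} [Group G] [Finite G] {ρ : G →* Aut X} {p : X ⟶ Y}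

/-- A property local on the target can be checked on the rings of sections for an affine morphism. -/
theorem of_forall_specMap_app (P : MorphismProperty Scheme.{u}) [IsZariskiLocalAtTarget P]
    (f : X ⟶ Y) [IsAffineHom f]
    (h : ∀ U : Y.Opens, IsAffineOpen U → P (Spec.map (f.app U))) : P f := by
  rw [IsZariskiLocalAtTarget.iff_of_iSup_eq_top (P := P) (fun U : Y.affineOpens => U.1)
    (iSup_affineOpens_eq_top Y)]
  rintro ⟨U, hU⟩
  have e : f ∣_ U = (hU.preimage f).isoSpec.hom ≫ Spec.map (f.app U) ≫ hU.isoSpec.inv := by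
    rw [← Category.assoc, Iso.eq_comp_inv, IsAffineOpen.isoSpec_hom, IsAffineOpen.isoSpec_hom,
      Scheme.Opens.toSpecΓ_naturality]
  change P (f ∣_ U)
  rw [e, MorphismProperty.cancel_left_of_respectsIso P, MorphismProperty.cancel_right_of_respectsIso P]
  exact h U hU

variable (hp : SGA1.IsQuot ρ p)
  (hfree : ∀ (K : Type u) [Field K] [IsAlgClosed K] (ξ : Spec (CommRingCat.of K) ⟶ X) (g : G),
    ξ ≫ (ρ g).hom = ξ → g = 1)

include hp hfree

theorem finite_etale_of_free : IsFinite p ∧ Etale p ∧ Flat p ∧ Surjective p := by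
  classical
  cases nonempty_fintype G
  haveI := hp.affine
  have key : ∀ U : Y.Opens, IsAffineOpen U →
      letI := algebra (p := p) U
      Module.Finite Γ(Y, U) Γ(X, p ⁻¹ᵁ U) ∧ Algebra.Etale Γ(Y, U) Γ(X, p ⁻¹ᵁ U) := by
    intro U hU
    letI := action hp.inv U; letI := algebra (p := p) U
    haveI := smulCommClass hp U
    haveI := isInvariant hp U
    haveI := faithfulSMul hp U
    exact ⟨finite_of_free _ (isFreeAction hp U (hU := hU) hfree),
      etale_of_free _ (isFreeAction hp U (hU := hU) hfree)⟩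
  have het : Etale p := of_forall_specMap_app (@Etale) p fun U hU => by
    letI := algebra (p := p) U
    exact (HasRingHomProperty.Spec_iff (P := @Etale)).mpr (RingHom.etale_algebraMap.mpr (key U hU).2)
  have hfin : IsFinite p := of_forall_specMap_app (@IsFinite) p fun U hU => by
    letI := algebra (p := p) U
    exact (IsFinite.SpecMap_iff _).mpr (RingHom.finite_algebraMap.mpr (key U hU).1)
  exact ⟨hfin, het, inferInstance, surjective hp⟩

/-- Geometric points with the same image are conjugate. -/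
theorem exists_point_smul {Ω : Type u} [Field Ω] (ξ₁ ξ₂ : Spec (CommRingCat.of Ω) ⟶ X)
    (h : ξ₁ ≫ p = ξ₂ ≫ p) : ∃ g : G, ξ₁ ≫ (ρ g).hom = ξ₂ := by
  classical
  cases nonempty_fintype G
  haveI := hp.affine
  obtain ⟨_, ⟨U, hU, rfl⟩, hyU, -⟩ :=
    Y.isBasis_affineOpens.exists_subset_of_mem_open (Set.mem_univ (p (ξ₁ default))) isOpen_univ
  have hU : IsAffineOpen U := hU
  have hW := hU.preimage p
  have hr : ∀ ξ : Spec (CommRingCat.of Ω) ⟶ X, ξ ≫ p = ξ₁ ≫ p →
      ∃ φ : Γ(X, p ⁻¹ᵁ U) ⟶ CommRingCat.of Ω, Spec.map φ ≫ hW.fromSpec = ξ := by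
    intro ξ hξ
    have hsub : Set.range ξ.base ⊆ Set.range hW.fromSpec.base := by
      rintro _ ⟨a, rfl⟩
      rw [hW.range_fromSpec, Subsingleton.elim a default]
      change p (ξ default) ∈ U
      rw [← Scheme.Hom.comp_apply, hξ, Scheme.Hom.comp_apply]
      exact hyU
    obtain ⟨φ, hφ⟩ := Spec.map_surjective (IsOpenImmersion.lift hW.fromSpec ξ hsub)
    exact ⟨φ, by rw [hφ, IsOpenImmersion.lift_fac]⟩
  obtain ⟨φ, rfl⟩ := hr ξ₁ rfl
  obtain ⟨ψ, rfl⟩ := hr ξ₂ h.symm
  have hsq := IsAffineOpen.SpecMap_appLE_fromSpec p hU hW le_rfl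
  rw [Scheme.Hom.appLE_eq_app] at hsq
  have hφψ : p.app U ≫ φ = p.app U ≫ ψ := by
    apply Spec.map_injective
    rw [← cancel_mono hU.fromSpec, Spec.map_comp, Spec.map_comp, Category.assoc, Category.assoc, hsq,
      ← Category.assoc, ← Category.assoc]
    exact h
  letI := action hp.inv U; letI := algebra (p := p) U
  haveI := smulCommClass hp U
  haveI := isInvariant hp U
  haveI := faithfulSMul hp U
  letI : Algebra Γ(Y, U) Ω := (p.app U ≫ φ).hom.toAlgebra
  let φ' : Γ(X, p ⁻¹ᵁ U) →ₐ[Γ(Y, U)] Ω := { toRingHom := φ.hom, commutes' := fun _ => rfl }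
  let ψ' : Γ(X, p ⁻¹ᵁ U) →ₐ[Γ(Y, U)] Ω :=
    { toRingHom := ψ.hom, commutes' := fun b => (RingHom.congr_fun (congrArg CommRingCat.Hom.hom hφψ) b).symm }
  let χ := Algebra.TensorProduct.lift φ' ψ' fun _ _ => Commute.all _ _
  have hbij := galoisMap_bijective Γ(Y, U) (isFreeAction hp U (hU := hU) hfree)
  let e := AlgEquiv.ofBijective (galoisMap G Γ(X, p ⁻¹ᵁ U) Γ(Y, U)) hbij
  let χ' : (G → Γ(X, p ⁻¹ᵁ U)) →+* Ω := χ.toRingHom.comp e.symm.toRingEquiv.toRingHom
  have hconst : ∀ a, χ' (fun _ => a) = φ' a := fun a => by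
    change χ (e.symm (fun _ => a)) = φ' a
    have : e.symm (fun _ => a) = a ⊗ₜ 1 := by
      rw [AlgEquiv.symm_apply_eq]
      funext g
      simp [e, galoisMap_tmul]
    simp [this, χ]
  have hsum : ∀ v : G → Γ(X, p ⁻¹ᵁ U), χ' v = ∑ g, χ' (Pi.single g 1) * φ' (v g) := fun v => by
    simp only [← hconst, ← map_mul, ← map_sum]
    congr 1
    funext g
    simp [Finset.sum_apply, Pi.single_apply]
  obtain ⟨g, hg⟩ : ∃ g : G, χ' (Pi.single g 1) ≠ 0 := by
    by_contra hcon
    push Not at hcon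
    have := hsum 1
    simp [hcon] at this
  have hone : χ' (Pi.single g 1) = 1 := by
    have : χ' (Pi.single g 1) * χ' (Pi.single g 1) = χ' (Pi.single g 1) := by
      rw [← map_mul, ← Pi.single_mul, mul_one]
    exact mul_left_cancel₀ hg (this.trans (mul_one _).symm)
  have hval : ∀ v : G → Γ(X, p ⁻¹ᵁ U), χ' v = φ' (v g) := fun v => by
    rw [← one_mul (φ' (v g)), ← hone, ← hconst, ← map_mul]
    calc χ' v = χ' (Pi.single g 1) * χ' v := by rw [hone, one_mul]
      _ = _ := by rw [← map_mul]; congr 1; funext k; simp [Pi.single_apply]; split_ifs with hk <;> simp [hk]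
  refine ⟨g⁻¹, ?_⟩
  have hψg : CommRingCat.ofHom (sectionHom hp.inv U g) ≫ φ = ψ := by
    refine CommRingCat.hom_ext (RingHom.ext fun c => ?_)
    have h1 : χ' (e (1 ⊗ₜ c)) = φ' (e (1 ⊗ₜ c) g) := hval _
    simp only [χ', RingHom.comp_apply] at h1
    change χ (e.symm (e (1 ⊗ₜ c))) = _ at h1
    rw [AlgEquiv.symm_apply_apply] at h1
    simp [χ, e, galoisMap_tmul] at h1
    exact h1.symm
  rw [Category.assoc, ← sectionHom_fromSpec hp.inv U g, ← Category.assoc, ← Spec.map_comp, hψg]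

end Groth.Pi1Quot
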