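import Mathlib.RingTheory.Invariant.Basic
import Mathlib.RingTheory.Ideal.GoingUp
import Mathlib.RingTheory.Localization.AtPrime.Basic
import Mathlib.RingTheory.Localization.Ideal
import Mathlib.RingTheory.Localization.Submodule
import Mathlib.RingTheory.Nakayama
import Mathlib.GroupTheory.GroupAction.Quotient

/-!
# Invariants under a subgroup containing a decomposition group

`R^G → R^H` is an isomorphism on completions at the primes below `q` when `H` contains the
decomposition group of `q`; the proof is elementary, by traces and norms from `H` to `G`.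
-/

universe u

set_option autoImplicit false
set_option backward.isDefEq.respectTransparency false

open scoped Pointwise

namespace Groth.Pi1Quot.Decomposition

variable {G R : Type u} [Group G] [CommRing R] [MulSemiringAction G R] {H : Subgroup G}


/-- The conjugate of an `H`-invariant element indexed by a coset. -/
noncomputable def orb (x : (FixedPoints.subring R H)) (c : G ⧸ H) : R := c.out • (x : R)

theorem orb_mk (x : (FixedPoints.subring R H)) (g : G) : orb x (g : G ⧸ H) = g • (x : R) := by
  have h : (g : G ⧸ H) = ((g : G ⧸ H).out : G ⧸ H) := (QuotientGroup.out_eq' _).symm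
  rw [QuotientGroup.eq] at h
  have h2 : (g⁻¹ * (g : G ⧸ H).out) • (x : R) = (x : R) := x.2 ⟨_, h⟩
  rw [orb]
  conv_lhs => rw [show (g : G ⧸ H).out = g * (g⁻¹ * (g : G ⧸ H).out) by group]
  rw [mul_smul, h2]

theorem smul_orb (x : (FixedPoints.subring R H)) (k : G) (c : G ⧸ H) : k • orb x c = orb x (k • c) := by
  induction c using QuotientGroup.induction_on with
  | H g => rw [orb_mk, MulAction.Quotient.smul_mk, orb_mk, smul_eq_mul, mul_smul]

theorem orb_one (x : (FixedPoints.subring R H)) : orb x ((1 : G) : G ⧸ H) = x := by rw [orb_mk, one_smul]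

theorem mk_ne_one {g : G} : (g : G ⧸ H) ≠ ((1 : G) : G ⧸ H) ↔ g ∉ H := by
  rw [Ne, QuotientGroup.eq, mul_one, inv_mem_iff]

variable [Fintype (G ⧸ H)]

/-- Trace from `H` to `G`. -/
noncomputable def tr (x : (FixedPoints.subring R H)) : (FixedPoints.subring R G) :=
  ⟨∑ c, orb x c, fun k => by
    rw [Finset.smul_sum]
    simp only [smul_orb]
    exact Fintype.sum_equiv (MulAction.toPerm k) _ _ fun c => rfl⟩

theorem tr_add (x y : (FixedPoints.subring R H)) : tr (x + y) = tr x + tr y :=
  Subtype.ext <| by
    change ∑ c, orb (x + y) c = ∑ c, orb x c + ∑ c, orb y c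
    rw [← Finset.sum_add_distrib]
    exact Finset.sum_congr rfl fun c _ => smul_add _ _ _

variable (hle : (FixedPoints.subring R G) ≤ (FixedPoints.subring R H))

theorem tr_mul (b : (FixedPoints.subring R G)) (x : (FixedPoints.subring R H)) : tr (Subring.inclusion hle b * x) = b * tr x :=
  Subtype.ext <| by
    change ∑ c, orb (Subring.inclusion hle b * x) c = (b : R) * ∑ c, orb x c
    rw [Finset.mul_sum]
    refine Finset.sum_congr rfl fun c _ => ?_
    change c.out • ((b : R) * (x : R)) = _
    rw [smul_mul', show c.out • (b : R) = b from b.2 _]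
    rfl

theorem tr_zero : tr (0 : (FixedPoints.subring R H)) = (0 : (FixedPoints.subring R G)) :=
  Subtype.ext (Finset.sum_eq_zero fun c _ => smul_zero _)

/-- Product of the nontrivial conjugates. -/
noncomputable def coNorm [DecidableEq (G ⧸ H)] (x : (FixedPoints.subring R H)) : (FixedPoints.subring R H) :=
  ⟨∏ c ∈ Finset.univ.erase ((1 : G) : G ⧸ H), orb x c, fun h => by
    change (h : G) • (∏ c ∈ Finset.univ.erase ((1 : G) : G ⧸ H), orb x c : R) = _
    rw [Finset.smul_prod']
    simp only [smul_orb]
    have h1 : (h : G) • (((1 : G) : G ⧸ H)) = ((1 : G) : G ⧸ H) := by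
      rw [MulAction.Quotient.smul_mk, smul_eq_mul, mul_one, QuotientGroup.eq, mul_one]
      exact inv_mem h.2
    refine Finset.prod_equiv (MulAction.toPerm (h : G)) (fun c => ?_) fun c _ => rfl
    simp only [Finset.mem_erase, Finset.mem_univ, and_true, MulAction.toPerm_apply, ne_eq]
    rw [← h1, smul_left_cancel_iff, h1]⟩

/-- Norm from `H` to `G`. -/
noncomputable def norm (x : (FixedPoints.subring R H)) : (FixedPoints.subring R G) :=
  ⟨∏ c, orb x c, fun k => by
    rw [Finset.smul_prod']
    simp only [smul_orb]
    exact Fintype.prod_equiv (MulAction.toPerm k) _ _ fun c => rfl⟩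

theorem inclusion_norm [DecidableEq (G ⧸ H)] (x : (FixedPoints.subring R H)) : Subring.inclusion hle (norm x) = x * coNorm x :=
  Subtype.ext <| by
    change ∏ c, orb x c = (x : R) * ∏ c ∈ Finset.univ.erase ((1 : G) : G ⧸ H), orb x c
    rw [← Finset.mul_prod_erase Finset.univ _ (Finset.mem_univ ((1 : G) : G ⧸ H)), orb_one]

variable [Finite G] [IsNoetherianRing (FixedPoints.subring R G)] [Module.Finite (FixedPoints.subring R G) R] (q : Ideal R) [q.IsPrime]

/-- The primes of `R^H` conjugate to the one below `q`. -/
noncomputable def Q (g : G) : Ideal (FixedPoints.subring R H) :=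
  q.comap ((MulSemiringAction.toRingHom G R g).comp (FixedPoints.subring R H).subtype)

instance (g : G) : (Q (H := H) q g).IsPrime := Ideal.IsPrime.comap _

theorem mem_Q {g : G} {x : (FixedPoints.subring R H)} : x ∈ Q q g ↔ g • (x : R) ∈ q := Iff.rfl


theorem Q_comap (g : G) : (Q q g).comap (Subring.inclusion hle) = Ideal.comap (Subring.inclusion hle) (Ideal.comap (FixedPoints.subring R H).subtype q) := by
  ext b
  rw [Ideal.mem_comap, Ideal.mem_comap, mem_Q, Ideal.mem_comap]
  rw [show g • ((Subring.inclusion hle b : (FixedPoints.subring R H)) : R) = (b : R) from b.2 g]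
  rfl

section
include hle

/-- `R^H` is finite over `R^G`. -/
theorem finite_inclusion : (Subring.inclusion hle).Finite := by
  letI := (Subring.inclusion hle).toAlgebra
  let f : (FixedPoints.subring R H) →ₗ[(FixedPoints.subring R G)] R :=
    { toFun := Subtype.val, map_add' := fun _ _ => rfl, map_smul' := fun _ _ => rfl }
  exact Module.Finite.of_injective f Subtype.val_injective

theorem isNoetherianRing_fixed : IsNoetherianRing (FixedPoints.subring R H) := by
  letI := (Subring.inclusion hle).toAlgebra
  haveI : Module.Finite (FixedPoints.subring R G) (FixedPoints.subring R H) := finite_inclusion hle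
  exact IsNoetherianRing.of_finite (FixedPoints.subring R G) (FixedPoints.subring R H)

theorem eq_of_le {P P' : Ideal (FixedPoints.subring R H)} [P.IsPrime] (h : P ≤ P')
    (hc : P.comap (Subring.inclusion hle) = P'.comap (Subring.inclusion hle)) : P = P' := by
  letI := (Subring.inclusion hle).toAlgebra
  haveI : Module.Finite (FixedPoints.subring R G) (FixedPoints.subring R H) := finite_inclusion hle
  refine le_antisymm h fun x hx => ?_
  by_contra hn
  exact (Ideal.comap_lt_comap_of_integral_mem_sdiff h ⟨hx, hn⟩ (Algebra.IsIntegral.isIntegral x)).ne hc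

variable (hD : MulAction.stabilizer G q ≤ H)
include hD

theorem Q_ne {g : G} (hg : g ∉ H) : Q (H := H) q g ≠ (Ideal.comap (FixedPoints.subring R H).subtype q) := by
  intro he
  haveI : Algebra.IsInvariant (FixedPoints.subring R H) R H := ⟨fun b hb => ⟨⟨b, hb⟩, rfl⟩⟩
  haveI : SMulCommClass H (FixedPoints.subring R H) R := ⟨fun h b r => by
    change (h : G) • ((b : R) * r) = (b : R) * ((h : G) • r)
    rw [smul_mul', show (h : G) • (b : R) = b from b.2 h]⟩
  obtain ⟨h, hh⟩ := Algebra.IsInvariant.exists_smul_of_under_eq (FixedPoints.subring R H) R H q (g⁻¹ • q) (by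
    ext x
    rw [Ideal.mem_comap, Ideal.mem_comap, Ideal.mem_pointwise_smul_iff_inv_smul_mem, inv_inv]
    change (x : R) ∈ q ↔ g • (x : R) ∈ q
    rw [← mem_Q q (H := H), he]
    rfl)
  refine hg ?_
  have h2 : g * (h : G) ∈ H := hD (by
    rw [MulAction.mem_stabilizer_iff, mul_smul]
    change g • (h • q) = q
    rw [← hh, smul_inv_smul])
  simpa using H.mul_mem h2 (H.inv_mem h.2)

theorem Q_not_le {g : G} (hg : g ∉ H) : ¬ Q (H := H) q g ≤ (Ideal.comap (FixedPoints.subring R H).subtype q) := fun h =>
  Q_ne hle q hD hg (eq_of_le hle h (Q_comap hle q g))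

theorem not_le_Q {g : G} (hg : g ∉ H) : ¬ (Ideal.comap (FixedPoints.subring R H).subtype q) ≤ Q (H := H) q g := fun h =>
  Q_ne hle q hD hg (eq_of_le hle h (Q_comap hle q g).symm).symm

theorem exists_e : ∃ e : (FixedPoints.subring R H), e ∉ (Ideal.comap (FixedPoints.subring R H).subtype q) ∧ ∀ g ∉ H, g • (e : R) ∈ q := by
  classical
  cases nonempty_fintype G
  have h : ¬ (Finset.univ.filter (· ∉ H)).inf (Q (H := H) q) ≤ (Ideal.comap (FixedPoints.subring R H).subtype q) := by
    rw [Ideal.IsPrime.inf_le' inferInstance]
    rintro ⟨g, hg, h⟩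
    exact Q_not_le hle q hD (Finset.mem_filter.1 hg).2 h
  obtain ⟨e, he, he'⟩ := SetLike.not_le_iff_exists.1 h
  exact ⟨e, he', fun g hg => (Finset.inf_le (f := Q (H := H) q)
    (Finset.mem_filter.2 ⟨Finset.mem_univ g, hg⟩)) he⟩

theorem exists_adjust {r : (FixedPoints.subring R H)} (hr : r ∈ (Ideal.comap (FixedPoints.subring R H).subtype q)) :
    ∃ y ∈ (Ideal.comap (FixedPoints.subring R H).subtype q) * (Ideal.comap (FixedPoints.subring R H).subtype q), ∀ g ∉ H, g • ((r + y : (FixedPoints.subring R H)) : R) ∉ q := by
  classical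
  cases nonempty_fintype G
  let S : Finset G := Finset.univ.filter fun g => g ∉ H ∧ r ∈ Q q g
  let T : Finset G := Finset.univ.filter fun g => g ∉ H ∧ r ∉ Q q g
  let J : Ideal (FixedPoints.subring R H) := (Ideal.comap (FixedPoints.subring R H).subtype q) * (Ideal.comap (FixedPoints.subring R H).subtype q) ⊓ T.inf (Q q)
  obtain ⟨y, hyJ, hy⟩ : ∃ y ∈ J, ∀ g ∈ S, y ∉ Q q g := by
    by_contra hcon
    push Not at hcon
    have hsub : (J : Set (FixedPoints.subring R H)) ⊆ ⋃ g ∈ (↑S : Set G), (Q (H := H) q g : Set (FixedPoints.subring R H)) := fun y hy => by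
      obtain ⟨g, hg, hgy⟩ := hcon y hy
      simp only [Set.mem_iUnion]
      exact ⟨g, hg, hgy⟩
    obtain ⟨g, hg, hgJ⟩ :=
      (Ideal.subset_union_prime (f := Q (H := H) q) (1 : G) (1 : G) (fun g _ _ _ => inferInstance)).1 hsub
    obtain ⟨-, hgH, hrg⟩ := Finset.mem_filter.1 hg
    rcases (Ideal.IsPrime.inf_le inferInstance).1 hgJ with h | h
    · rcases (Ideal.IsPrime.mul_le inferInstance).1 h with h | h <;> exact not_le_Q hle q hD hgH h
    · obtain ⟨g', hg', hle'⟩ := (Ideal.IsPrime.inf_le' inferInstance).1 h
      have := eq_of_le hle hle' ((Q_comap hle q g').trans (Q_comap hle q g).symm)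
      exact (Finset.mem_filter.1 hg').2.2 (this ▸ hrg)
  refine ⟨y, hyJ.1, fun g hg hmem => ?_⟩
  replace hmem : r + y ∈ Q q g := hmem
  by_cases hrg : r ∈ Q q g
  · exact hy g (Finset.mem_filter.2 ⟨Finset.mem_univ g, hg, hrg⟩) ((Ideal.add_mem_iff_right _ hrg).1 hmem)
  · exact hrg ((Ideal.add_mem_iff_left _ ((Finset.inf_le (f := Q (H := H) q)
      (Finset.mem_filter.2 ⟨Finset.mem_univ g, hg, hrg⟩)) hyJ.2)).1 hmem)

end

theorem tr_mul_sub_mem {e : (FixedPoints.subring R H)} (he : ∀ g ∉ H, g • (e : R) ∈ q) (x : (FixedPoints.subring R H)) :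
    Subring.inclusion hle (tr (e * x)) - e * x ∈ (Ideal.comap (FixedPoints.subring R H).subtype q) := by
  classical
  change (∑ c, orb (e * x) c) - ((e : R) * (x : R)) ∈ q
  rw [← Finset.add_sum_erase Finset.univ _ (Finset.mem_univ ((1 : G) : G ⧸ H)), orb_one]
  change ((e : R) * (x : R)) + _ - _ ∈ q
  rw [add_sub_cancel_left]
  refine Ideal.sum_mem _ fun c hc => ?_
  induction c using QuotientGroup.induction_on with
  | H g =>
    rw [orb_mk]
    change g • ((e : R) * (x : R)) ∈ q
    rw [smul_mul']
    exact Ideal.mul_mem_right _ _ (he g (mk_ne_one.1 (Finset.ne_of_mem_erase hc)))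


variable (hD : MulAction.stabilizer G q ≤ H)
include hD

theorem exists_smul_sub_mem (x : (FixedPoints.subring R H)) :
    ∃ b c : (FixedPoints.subring R G), c ∉ (Ideal.comap (Subring.inclusion hle) (Ideal.comap (FixedPoints.subring R H).subtype q)) ∧ Subring.inclusion hle c * x - Subring.inclusion hle b ∈ (Ideal.comap (FixedPoints.subring R H).subtype q) := by
  obtain ⟨e, he, heg⟩ := exists_e hle q hD
  refine ⟨tr (e * x), tr (e * 1), fun hc => he ?_, ?_⟩
  · have h := tr_mul_sub_mem hle q heg 1
    rw [mul_one] at h
    have hc' : Subring.inclusion hle (tr (e * 1)) ∈ (Ideal.comap (FixedPoints.subring R H).subtype q) := hc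
    rw [mul_one] at hc'
    simpa using Ideal.sub_mem _ hc' h
  · have h1 := Ideal.mul_mem_right x _ (tr_mul_sub_mem hle q heg 1)
    have h2 := tr_mul_sub_mem hle q heg x
    convert Ideal.sub_mem _ h1 h2 using 1
    ring

theorem map_maximalIdeal :
    (IsLocalRing.maximalIdeal (Localization.AtPrime (Ideal.comap (Subring.inclusion hle) (Ideal.comap (FixedPoints.subring R H).subtype q)))).map (Localization.localRingHom (Ideal.comap (Subring.inclusion hle) (Ideal.comap (FixedPoints.subring R H).subtype q)) (Ideal.comap (FixedPoints.subring R H).subtype q) (Subring.inclusion hle) rfl) =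
      IsLocalRing.maximalIdeal (Localization.AtPrime (Ideal.comap (FixedPoints.subring R H).subtype q)) := by
  classical
  haveI := isNoetherianRing_fixed (H := H) hle
  rw [← Localization.AtPrime.map_eq_maximalIdeal, ← Localization.AtPrime.map_eq_maximalIdeal, Ideal.map_map,
    show (Localization.localRingHom (Ideal.comap (Subring.inclusion hle) (Ideal.comap (FixedPoints.subring R H).subtype q)) (Ideal.comap (FixedPoints.subring R H).subtype q) (Subring.inclusion hle) rfl).comp (algebraMap (FixedPoints.subring R G) (Localization.AtPrime (Ideal.comap (Subring.inclusion hle) (Ideal.comap (FixedPoints.subring R H).subtype q)))) =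
      (algebraMap (FixedPoints.subring R H) (Localization.AtPrime (Ideal.comap (FixedPoints.subring R H).subtype q))).comp (Subring.inclusion hle) from
      RingHom.ext (Localization.localRingHom_to_map _ _ _ rfl), ← Ideal.map_map]
  refine le_antisymm (Ideal.map_mono (Ideal.map_comap_le (f := Subring.inclusion hle) (K := (Ideal.comap (FixedPoints.subring R H).subtype q)))) ?_
  haveI : IsNoetherianRing (Localization.AtPrime (Ideal.comap (FixedPoints.subring R H).subtype q)) :=
    IsLocalization.isNoetherianRing (Ideal.comap (FixedPoints.subring R H).subtype q).primeCompl _ inferInstance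
  refine Submodule.le_of_le_smul_of_le_jacobson_bot (IsNoetherian.noetherian _)
    (show Ideal.map (algebraMap (FixedPoints.subring R H) (Localization.AtPrime (Ideal.comap (FixedPoints.subring R H).subtype q))) (Ideal.comap (FixedPoints.subring R H).subtype q) ≤ _ by
      rw [IsLocalRing.jacobson_eq_maximalIdeal ⊥ bot_ne_top, Localization.AtPrime.map_eq_maximalIdeal]) ?_
  refine Ideal.map_le_iff_le_comap.2 fun r hr => ?_
  obtain ⟨y, hy, hgy⟩ := exists_adjust hle q hD hr
  have hu : IsUnit (algebraMap (FixedPoints.subring R H) (Localization.AtPrime (Ideal.comap (FixedPoints.subring R H).subtype q)) (coNorm (r + y))) := by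
    refine IsLocalization.map_units (M := (Ideal.comap (FixedPoints.subring R H).subtype q).primeCompl) _ ⟨_, ?_⟩
    change ¬ ((coNorm (r + y) : (FixedPoints.subring R H)) : R) ∈ q
    intro hm
    obtain ⟨c, hc, hcq⟩ := (Ideal.IsPrime.prod_mem_iff).1 hm
    induction c using QuotientGroup.induction_on with
    | H g => rw [orb_mk] at hcq; exact hgy g (mk_ne_one.1 (Finset.ne_of_mem_erase hc)) hcq
  have hyq : y ∈ (Ideal.comap (FixedPoints.subring R H).subtype q) := Ideal.mul_le_right hy
  have hn : norm (r + y) ∈ (Ideal.comap (Subring.inclusion hle) (Ideal.comap (FixedPoints.subring R H).subtype q)) := by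
    change Subring.inclusion hle (norm (r + y)) ∈ (Ideal.comap (FixedPoints.subring R H).subtype q)
    rw [inclusion_norm hle]
    exact Ideal.mul_mem_right _ _ (Ideal.add_mem _ hr hyq)
  have h1 : algebraMap (FixedPoints.subring R H) (Localization.AtPrime (Ideal.comap (FixedPoints.subring R H).subtype q)) (r + y) ∈
      (Ideal.map (Subring.inclusion hle) (Ideal.comap (Subring.inclusion hle) (Ideal.comap (FixedPoints.subring R H).subtype q))).map (algebraMap (FixedPoints.subring R H) (Localization.AtPrime (Ideal.comap (FixedPoints.subring R H).subtype q))) := by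
    rw [← Ideal.mul_unit_mem_iff_mem _ hu, ← map_mul, ← inclusion_norm hle]
    exact Ideal.mem_map_of_mem _ (Ideal.mem_map_of_mem _ hn)
  rw [Ideal.mem_comap, show r = (r + y) - y by ring, map_sub]
  refine Submodule.sub_mem _ (Submodule.mem_sup_left h1) (Submodule.mem_sup_right ?_)
  rw [smul_eq_mul, ← Ideal.map_mul]
  exact Ideal.mem_map_of_mem _ hy

theorem surjective_quot (n : ℕ) :
    Function.Surjective ((Ideal.Quotient.mk (IsLocalRing.maximalIdeal (Localization.AtPrime (Ideal.comap (FixedPoints.subring R H).subtype q)) ^ n)).comp (Localization.localRingHom (Ideal.comap (Subring.inclusion hle) (Ideal.comap (FixedPoints.subring R H).subtype q)) (Ideal.comap (FixedPoints.subring R H).subtype q) (Subring.inclusion hle) rfl)) := by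
  set m := IsLocalRing.maximalIdeal (Localization.AtPrime (Ideal.comap (Subring.inclusion hle) (Ideal.comap (FixedPoints.subring R H).subtype q)))
  set m' := IsLocalRing.maximalIdeal (Localization.AtPrime (Ideal.comap (FixedPoints.subring R H).subtype q))
  have hm : m.map (Localization.localRingHom (Ideal.comap (Subring.inclusion hle) (Ideal.comap (FixedPoints.subring R H).subtype q)) (Ideal.comap (FixedPoints.subring R H).subtype q) (Subring.inclusion hle) rfl) = m' := map_maximalIdeal hle q hD
  have hres : ∀ z, ∃ b, z - (Localization.localRingHom (Ideal.comap (Subring.inclusion hle) (Ideal.comap (FixedPoints.subring R H).subtype q)) (Ideal.comap (FixedPoints.subring R H).subtype q) (Subring.inclusion hle) rfl) b ∈ m' := by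
    intro z
    obtain ⟨⟨x, s⟩, rfl⟩ := IsLocalization.mk'_surjective (Ideal.comap (FixedPoints.subring R H).subtype q).primeCompl z
    obtain ⟨b, c, hc, hbc⟩ := exists_smul_sub_mem hle q hD x
    obtain ⟨b', c', hc', hbc'⟩ := exists_smul_sub_mem hle q hD (s : (FixedPoints.subring R H))
    have hb' : b' ∈ (Ideal.comap (Subring.inclusion hle) (Ideal.comap (FixedPoints.subring R H).subtype q)).primeCompl := fun hb => s.2 <| by
      have h0 : Subring.inclusion hle c' * (s : (FixedPoints.subring R H)) ∈ (Ideal.comap (FixedPoints.subring R H).subtype q) := by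
        simpa using Ideal.add_mem _ hbc' (show Subring.inclusion hle b' ∈ (Ideal.comap (FixedPoints.subring R H).subtype q) from hb)
      exact (Ideal.IsPrime.mem_or_mem inferInstance h0).resolve_left hc'
    refine ⟨IsLocalization.mk' _ (b * c') (⟨c * b', Submonoid.mul_mem _ hc hb'⟩ : (Ideal.comap (Subring.inclusion hle) (Ideal.comap (FixedPoints.subring R H).subtype q)).primeCompl), ?_⟩
    rw [Localization.localRingHom_mk']
    set d : (Ideal.comap (FixedPoints.subring R H).subtype q).primeCompl := ⟨Subring.inclusion hle (c * b'), _⟩ with hd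
    refine (Ideal.unit_mul_mem_iff_mem _ ((IsLocalization.map_units (Localization.AtPrime (Ideal.comap (FixedPoints.subring R H).subtype q)) s).mul
      (IsLocalization.map_units (Localization.AtPrime (Ideal.comap (FixedPoints.subring R H).subtype q)) d))).1 ?_
    rw [mul_sub, mul_right_comm, IsLocalization.mk'_spec', mul_assoc _ _ (IsLocalization.mk' _ (Subring.inclusion hle (b * c')) d),
      IsLocalization.mk'_spec', ← map_mul, ← map_mul, ← map_sub, IsLocalization.AtPrime.to_map_mem_maximal_iff (Localization.AtPrime (Ideal.comap (FixedPoints.subring R H).subtype q)) (Ideal.comap (FixedPoints.subring R H).subtype q),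
      mul_comm (s : (FixedPoints.subring R H)), hd]
    change (x : (FixedPoints.subring R H)) * Subring.inclusion hle (c * b') - Subring.inclusion hle (b * c') * (s : (FixedPoints.subring R H)) ∈ (Ideal.comap (FixedPoints.subring R H).subtype q)
    convert Ideal.sub_mem _ (Ideal.mul_mem_left _ (Subring.inclusion hle b') hbc)
      (Ideal.mul_mem_left _ (Subring.inclusion hle b) hbc') using 1
    rw [map_mul, map_mul]; ring
  have key : ∀ k z, ∃ b, z - (Localization.localRingHom (Ideal.comap (Subring.inclusion hle) (Ideal.comap (FixedPoints.subring R H).subtype q)) (Ideal.comap (FixedPoints.subring R H).subtype q) (Subring.inclusion hle) rfl) b ∈ m' ^ k := by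
    intro k
    induction k with
    | zero => exact fun z => ⟨0, by simp⟩
    | succ k ih =>
      intro z
      obtain ⟨b, hb⟩ := ih z
      have h : ∀ w ∈ m' ^ k, ∃ b, w - (Localization.localRingHom (Ideal.comap (Subring.inclusion hle) (Ideal.comap (FixedPoints.subring R H).subtype q)) (Ideal.comap (FixedPoints.subring R H).subtype q) (Subring.inclusion hle) rfl) b ∈ m' ^ (k + 1) := by
        intro w hw
        have hw' : w ∈ (m ^ k).map (Localization.localRingHom (Ideal.comap (Subring.inclusion hle) (Ideal.comap (FixedPoints.subring R H).subtype q)) (Ideal.comap (FixedPoints.subring R H).subtype q) (Subring.inclusion hle) rfl) := by rwa [Ideal.map_pow, hm]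
        refine Submodule.span_induction
          (p := fun w hw => ∀ t, ∃ b, t * w - (Localization.localRingHom (Ideal.comap (Subring.inclusion hle) (Ideal.comap (FixedPoints.subring R H).subtype q)) (Ideal.comap (FixedPoints.subring R H).subtype q) (Subring.inclusion hle) rfl) b ∈ m' ^ (k + 1)) ?_ ?_ ?_ ?_ hw' 1 |>.imp fun b hb => by
            simpa using hb
        · rintro _ ⟨a, ha, rfl⟩ t
          obtain ⟨b, hb⟩ := hres t
          refine ⟨b * a, ?_⟩
          rw [map_mul, ← sub_mul, pow_succ']
          exact Ideal.mul_mem_mul hb (by rw [← hm, ← Ideal.map_pow]; exact Ideal.mem_map_of_mem _ ha)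
        · exact fun t => ⟨0, by simp⟩
        · rintro v v' - - hv hv' t
          obtain ⟨b, hb⟩ := hv t
          obtain ⟨b', hb'⟩ := hv' t
          refine ⟨b + b', ?_⟩
          convert Ideal.add_mem _ hb hb' using 1
          rw [map_add]; ring
        · rintro s v - hv t
          obtain ⟨b, hb⟩ := hv (t * s)
          exact ⟨b, by rwa [smul_eq_mul, ← mul_assoc]⟩
      obtain ⟨b', hb'⟩ := h _ hb
      exact ⟨b + b', by rwa [map_add, ← sub_sub]⟩
  intro z
  obtain ⟨z, rfl⟩ := Ideal.Quotient.mk_surjective z
  obtain ⟨b, hb⟩ := key n z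
  exact ⟨b, (Ideal.Quotient.eq.2 hb).symm⟩

theorem comap_pow (n : ℕ) :
    Ideal.comap (Localization.localRingHom (Ideal.comap (Subring.inclusion hle) (Ideal.comap (FixedPoints.subring R H).subtype q)) (Ideal.comap (FixedPoints.subring R H).subtype q) (Subring.inclusion hle) rfl) (IsLocalRing.maximalIdeal (Localization.AtPrime (Ideal.comap (FixedPoints.subring R H).subtype q)) ^ n) =
      IsLocalRing.maximalIdeal (Localization.AtPrime (Ideal.comap (Subring.inclusion hle) (Ideal.comap (FixedPoints.subring R H).subtype q))) ^ n := by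
  refine le_antisymm (fun z hz => ?_) ?_
  swap
  · rw [← map_maximalIdeal hle q hD, ← Ideal.map_pow]
    exact Ideal.le_comap_map
  obtain ⟨⟨x, s⟩, rfl⟩ := IsLocalization.mk'_surjective (Ideal.comap (Subring.inclusion hle) (Ideal.comap (FixedPoints.subring R H).subtype q)).primeCompl z
  have hz' : algebraMap (FixedPoints.subring R H) (Localization.AtPrime (Ideal.comap (FixedPoints.subring R H).subtype q)) (Subring.inclusion hle x) ∈
      (((Ideal.comap (Subring.inclusion hle) (Ideal.comap (FixedPoints.subring R H).subtype q)) ^ n).map (Subring.inclusion hle)).map (algebraMap (FixedPoints.subring R H) (Localization.AtPrime (Ideal.comap (FixedPoints.subring R H).subtype q))) := by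
    rw [Ideal.mem_comap, Localization.localRingHom_mk', ← map_maximalIdeal hle q hD,
      ← Localization.AtPrime.map_eq_maximalIdeal, Ideal.map_map,
      show (Localization.localRingHom (Ideal.comap (Subring.inclusion hle) (Ideal.comap (FixedPoints.subring R H).subtype q)) (Ideal.comap (FixedPoints.subring R H).subtype q) (Subring.inclusion hle) rfl).comp (algebraMap (FixedPoints.subring R G) (Localization.AtPrime (Ideal.comap (Subring.inclusion hle) (Ideal.comap (FixedPoints.subring R H).subtype q)))) =
        (algebraMap (FixedPoints.subring R H) (Localization.AtPrime (Ideal.comap (FixedPoints.subring R H).subtype q))).comp (Subring.inclusion hle) from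
        RingHom.ext (Localization.localRingHom_to_map _ _ _ rfl), ← Ideal.map_pow, IsLocalization.mk'_mem_iff] at hz
    rwa [← Ideal.map_map] at hz
  obtain ⟨t, ht, htx⟩ := (IsLocalization.algebraMap_mem_map_algebraMap_iff (Ideal.comap (FixedPoints.subring R H).subtype q).primeCompl _ _ _).1 hz'
  have key : ∀ w ∈ ((Ideal.comap (Subring.inclusion hle) (Ideal.comap (FixedPoints.subring R H).subtype q)) ^ n).map (Subring.inclusion hle), ∀ y : (FixedPoints.subring R H), tr (y * w) ∈ (Ideal.comap (Subring.inclusion hle) (Ideal.comap (FixedPoints.subring R H).subtype q)) ^ n := by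
    intro w hw
    refine Submodule.span_induction (p := fun w _ => ∀ y : (FixedPoints.subring R H), tr (y * w) ∈ (Ideal.comap (Subring.inclusion hle) (Ideal.comap (FixedPoints.subring R H).subtype q)) ^ n) ?_ ?_ ?_ ?_ hw
    · rintro _ ⟨a, ha, rfl⟩ y
      rw [mul_comm, tr_mul hle]
      exact Ideal.mul_mem_right _ _ ha
    · intro y
      rw [mul_zero, tr_zero]
      exact zero_mem _
    · rintro v v' - - hv hv' y
      rw [mul_add, tr_add]
      exact Ideal.add_mem _ (hv y) (hv' y)
    · rintro c v - hv y
      rw [smul_eq_mul, ← mul_assoc]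
      exact hv _
  obtain ⟨e, he, heg⟩ := exists_e hle q hD
  have h1 : x * tr (e * t) ∈ (Ideal.comap (Subring.inclusion hle) (Ideal.comap (FixedPoints.subring R H).subtype q)) ^ n := by
    rw [← tr_mul hle, show Subring.inclusion hle x * (e * t) = e * (t * Subring.inclusion hle x) by ring]
    exact key _ htx e
  have hu : tr (e * t) ∈ (Ideal.comap (Subring.inclusion hle) (Ideal.comap (FixedPoints.subring R H).subtype q)).primeCompl := fun hm => by
    have h := Ideal.sub_mem _ (show Subring.inclusion hle (tr (e * t)) ∈ (Ideal.comap (FixedPoints.subring R H).subtype q) from hm) (tr_mul_sub_mem hle q heg t)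
    rw [sub_sub_cancel] at h
    exact ((Ideal.IsPrime.mem_or_mem inferInstance h).resolve_left he |> ht)
  rw [← Localization.AtPrime.map_eq_maximalIdeal, ← Ideal.map_pow, IsLocalization.mk'_mem_iff,
    IsLocalization.algebraMap_mem_map_algebraMap_iff (Ideal.comap (Subring.inclusion hle) (Ideal.comap (FixedPoints.subring R H).subtype q)).primeCompl]
  exact ⟨_, hu, mul_comm x _ ▸ h1⟩

end Groth.Pi1Quot.Decomposition
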