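import Groth.Agent.Pi1Quot.Unramified
import Groth.Agent.Pi1Quot.Descend
import Groth.Agent.AlgSpBasic.SourceDescent
import Mathlib.AlgebraicGeometry.Morphisms.Etale

/-!
# Quotients of étale schemes by finite groups
-/

universe u

set_option autoImplicit false
set_option backward.isDefEq.respectTransparency false

open CategoryTheory Limits AlgebraicGeometry TopologicalSpace

namespace Groth.Pi1Quot

variable {X X' Y : Scheme.{u}} {G : Type u} [Group G] [Finite G] {ρ : G →* Aut X} {p : X ⟶ X'}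
  (hp : SGA1.IsQuot ρ p) (q : X' ⟶ Y) [Etale (p ≫ q)]

include hp q

/-- The quotient of a scheme etale over `Y` by `Y`-automorphisms is finite etale below. -/
theorem etale_quot : Etale p := by
  classical
  cases nonempty_fintype G
  haveI := hp.affine
  let I := {U : X'.affineOpens // ∃ W : Y.affineOpens, U.1 ≤ q ⁻¹ᵁ W.1}
  have hI : ⨆ i : I, i.1.1 = ⊤ := by
    refine eq_top_iff.2 fun y _ => Opens.mem_iSup.2 ?_
    obtain ⟨_, ⟨W, hW, rfl⟩, hyW, -⟩ :=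
      Y.isBasis_affineOpens.exists_subset_of_mem_open (Set.mem_univ (q y)) isOpen_univ
    obtain ⟨_, ⟨U, hU, rfl⟩, hyU, hUW⟩ :=
      X'.isBasis_affineOpens.exists_subset_of_mem_open (show y ∈ q ⁻¹ᵁ W from hyW) (q ⁻¹ᵁ W).isOpen
    exact ⟨⟨⟨U, hU⟩, ⟨W, hW⟩, hUW⟩, hyU⟩
  rw [IsZariskiLocalAtTarget.iff_of_iSup_eq_top (P := @Etale) (fun i : I => i.1.1) hI]
  rintro ⟨⟨U, hU⟩, W, hUW⟩
  change Etale (p ∣_ U)
  have e : p ∣_ U = (hU.preimage p).isoSpec.hom ≫ Spec.map (p.app U) ≫ hU.isoSpec.inv := by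
    rw [← Category.assoc, Iso.eq_comp_inv, IsAffineOpen.isoSpec_hom, IsAffineOpen.isoSpec_hom,
      Scheme.Opens.toSpecΓ_naturality]
  rw [e, MorphismProperty.cancel_left_of_respectsIso @Etale, MorphismProperty.cancel_right_of_respectsIso @Etale]
  have h1 := HasRingHomProperty.appLE (P := @Etale) (p ≫ q) inferInstance W ⟨_, hU.preimage p⟩
    (show p ⁻¹ᵁ U ≤ p ⁻¹ᵁ (q ⁻¹ᵁ W.1) from p.preimage_mono hUW)
  rw [← Scheme.Hom.appLE_comp_appLE p q W.1 U (p ⁻¹ᵁ U) hUW le_rfl, Scheme.Hom.appLE_eq_app] at h1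
  letI := action hp.inv U; letI := algebra (p := p) U
  haveI := smulCommClass hp U
  haveI := isInvariant hp U
  haveI := faithfulSMul hp U
  letI : Algebra Γ(Y, W.1) Γ(X, p ⁻¹ᵁ U) := (q.appLE W.1 U hUW ≫ p.app U).hom.toAlgebra
  haveI : Algebra.Etale Γ(Y, W.1) Γ(X, p ⁻¹ᵁ U) := h1
  haveI : SMulCommClass G Γ(Y, W.1) Γ(X, p ⁻¹ᵁ U) := ⟨fun g b a => by
    rw [Algebra.smul_def, Algebra.smul_def, smul_mul']
    congr 1
    exact sectionHom_app hp.inv U g _⟩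
  obtain ⟨ε, hε⟩ := fixIdem_of_formallyUnramified (G := G) (A := Γ(X, p ⁻¹ᵁ U)) (R := Γ(Y, W.1))
  exact (HasRingHomProperty.Spec_iff (P := @Etale)).mpr (RingHom.etale_algebraMap.mpr (hε.etale _))

theorem etale_quot_snd : Etale q := by
  haveI := etale_quot hp q
  haveI := surjective hp
  exact AlgSpBasic.SourceDescent.etale_of_comp_surjective p q

omit [Etale (p ≫ q)] in
theorem isFinite_quot_snd [IsLocallyNoetherian Y] [IsFinite (p ≫ q)] : IsFinite q := by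
  haveI := isAffineHom_of_comp hp q
  refine ⟨fun W hW => ?_⟩
  have h2 : ((p ≫ q).app W).hom.Finite := IsFinite.finite_app (f := p ≫ q) W hW
  rw [Scheme.Hom.comp_app] at h2
  haveI : IsNoetherianRing Γ(Y, W) := IsLocallyNoetherian.component_noetherian ⟨W, hW⟩
  algebraize [(q.app W).hom, (p.app (q ⁻¹ᵁ W)).hom, (q.app W ≫ p.app (q ⁻¹ᵁ W)).hom]
  haveI : IsScalarTower Γ(Y, W) Γ(X', q ⁻¹ᵁ W) Γ(X, p ⁻¹ᵁ (q ⁻¹ᵁ W)) := IsScalarTower.of_algebraMap_eq' rfl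
  haveI : Module.Finite Γ(Y, W) Γ(X, p ⁻¹ᵁ (q ⁻¹ᵁ W)) := h2
  exact Module.Finite.of_injective
    (IsScalarTower.toAlgHom Γ(Y, W) Γ(X', q ⁻¹ᵁ W) Γ(X, p ⁻¹ᵁ (q ⁻¹ᵁ W))).toLinearMap (hp.injective _)

end Groth.Pi1Quot
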