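/-
The norm of an invertible module along the quotient by a finite group.
-/
import Groth.Agent.Ega2Proj.NormModule
import Groth.Agent.Pi1Quot.Descend
import Groth.Agent.Pi1Quot.Local

set_option autoImplicit false

universe u

open CategoryTheory AlgebraicGeometry Opposite TopologicalSpace

set_option backward.isDefEq.respectTransparency.types false

noncomputable section

namespace Groth.NormQuot

open Groth.PicAux Groth.Chow Groth.PropsBasic.Ample
open Groth.Ega2Proj.NormMod (gen_iff_isUnit exists_gen_near_fibre)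
open Groth.Pi1Quot (sectionHom sectionHom_mul sectionHom_one forall_smul_iff res_app res_sectionHom)

variable {X' X : Scheme.{u}} {G : Type u} [Group G] [Fintype G] {ρ : G →* Aut X'} {g : X' ⟶ X}
  (hp : SGA1.IsQuot ρ g)

include hp

/-- The product of the translates of a section. -/
def prodSmul (V : X.Opens) : Γ(X', g ⁻¹ᵁ V) →* Γ(X', g ⁻¹ᵁ V) where
  toFun a := ∏ σ, sectionHom hp.inv V σ a
  map_one' := by simp
  map_mul' a b := by simp [Finset.prod_mul_distrib]

theorem exists_nmQ (V : X.Opens) (a : Γ(X', g ⁻¹ᵁ V)) :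
    ∃ b : Γ(X, V), g.app V b = prodSmul hp V a := by
  refine (hp.range_iff V (prodSmul hp V a)).2 ((forall_smul_iff hp.inv V (prodSmul hp V a)).1 fun τ => ?_)
  change sectionHom hp.inv V τ (∏ σ, sectionHom hp.inv V σ a) = ∏ σ, sectionHom hp.inv V σ a
  rw [map_prod]
  refine Fintype.prod_equiv (Equiv.mulLeft τ) _ _ fun σ => ?_
  rw [Equiv.coe_mulLeft, sectionHom_mul]
  rfl

/-- The norm along the quotient map. -/
def nmQ (V : X.Opens) : Γ(X', g ⁻¹ᵁ V) →* Γ(X, V) where
  toFun a := (exists_nmQ hp V a).choose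
  map_one' := hp.injective V (by rw [(exists_nmQ hp V 1).choose_spec, map_one, map_one])
  map_mul' a b := hp.injective V (by
    rw [(exists_nmQ hp V (a * b)).choose_spec, map_mul, map_mul, (exists_nmQ hp V a).choose_spec,
      (exists_nmQ hp V b).choose_spec])

theorem app_nmQ (V : X.Opens) (a : Γ(X', g ⁻¹ᵁ V)) :
    g.app V (nmQ hp V a) = ∏ σ, sectionHom hp.inv V σ a :=
  (exists_nmQ hp V a).choose_spec

theorem resX_nmQ {U V : X.Opens} (h : V ≤ U) (a : Γ(X', g ⁻¹ᵁ U)) :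
    resX X h (nmQ hp U a) = nmQ hp V (resX X' (g.preimage_mono h) a) := by
  refine hp.injective V ?_
  rw [app_nmQ]
  refine (res_app h (nmQ hp U a)).symm.trans ?_
  rw [app_nmQ, map_prod]
  exact Finset.prod_congr rfl fun σ _ => res_sectionHom hp.inv h σ a

theorem isUnit_nmQ_iff {V : X.Opens} (a : Γ(X', g ⁻¹ᵁ V)) : IsUnit (nmQ hp V a) ↔ IsUnit a := by
  refine ⟨fun h => ?_, fun h => h.map _⟩
  have h' := h.map (g.app V).hom
  rw [app_nmQ] at h'
  have h'' := isUnit_of_dvd_unit (Finset.dvd_prod_of_mem _ (Finset.mem_univ (1 : G))) h'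
  rwa [sectionHom_one] at h''

/-- The norm module, with the norms of sections of its powers. -/
theorem exists_norm [IsFinite g]
    {L : X'.Modules} (hL : PicF.IsInvertible L) :
    ∃ N : X.Modules, PicF.IsInvertible N ∧
      ∀ (m : ℕ) (U : X.Opens) (s : Γ(CohB1.tensorPow L m, g ⁻¹ᵁ U)),
        ∃ t : Γ(CohB1.tensorPow N m, U), ∀ (V : X.Opens) (hV : V ≤ U),
          Gen (CohB1.tensorPow N m) V (res _ hV t) ↔
            Gen (CohB1.tensorPow L m) (g ⁻¹ᵁ V) (res _ (g.preimage_mono hV) s) := by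
  classical
  choose W e hxW he using exists_gen_near_fibre g hL
  have hW : iSup W = ⊤ := eq_top_iff.2 fun x _ => Opens.mem_iSup.2 ⟨x, hxW x⟩
  choose u hu using fun x y : X => ((he y).res (g.preimage_mono (inf_le_right : W x ⊓ W y ≤ W y))).exists_unit
    ((he x).res (g.preimage_mono (inf_le_left : W x ⊓ W y ≤ W x)))
  let η : ∀ x y, Γ(X, W x ⊓ W y) := fun x y => nmQ hp (W x ⊓ W y) (u x y)
  have huV : ∀ (x y : X) (V : X.Opens) (h : V ≤ W x ⊓ W y),
      res L (g.preimage_mono (h.trans inf_le_left)) (e x) =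
        resX X' (g.preimage_mono h) (u x y) • res L (g.preimage_mono (h.trans inf_le_right)) (e y) := by
    intro x y V h
    have := congrArg (res L (g.preimage_mono h)) (hu x y)
    rwa [res_res, res_smul, res_res] at this
  have hηV : ∀ (x y : X) (V : X.Opens) (h : V ≤ W x ⊓ W y),
      resX X h (η x y) = nmQ hp V (resX X' (g.preimage_mono h) (u x y)) := fun x y V h =>
    resX_nmQ hp h _
  obtain ⟨N, ε, hε, hN, hrel⟩ := exists_module_of_cocycle W η hW (fun x y => (u x y).isUnit.map _)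
    (fun x y z => by
      rw [hηV x z _ (inf_le_inf_right _ inf_le_left), hηV x y _ inf_le_left,
        hηV y z _ (inf_le_inf_right _ inf_le_right), ← map_mul]
      refine congrArg _ (((he z).res (g.preimage_mono (inf_le_right : W x ⊓ W y ⊓ W z ≤ W z))).smul_inj le_rfl ?_)
      simp only [res_self]
      rw [mul_smul, ← huV y z _ (inf_le_inf_right _ inf_le_right), ← huV x y _ inf_le_left,
        ← huV x z _ (inf_le_inf_right _ inf_le_left)])
  refine ⟨N, hN, fun m U s => ?_⟩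
  have hcoef : ∀ x : X, ∃ c : Γ(X', g ⁻¹ᵁ (U ⊓ W x)),
      res _ (g.preimage_mono (inf_le_left : U ⊓ W x ≤ U)) s =
        c • powSec (res L (g.preimage_mono (inf_le_right : U ⊓ W x ≤ W x)) (e x)) m := fun x => by
    obtain ⟨c, hc⟩ := (((he x).res (g.preimage_mono (inf_le_right : U ⊓ W x ≤ W x))).pow m).exists_coeff le_rfl
      (res _ (g.preimage_mono (inf_le_left : U ⊓ W x ≤ U)) s)
    rw [res_self] at hc
    exact ⟨c, hc⟩
  choose c hc using hcoef
  have hcV : ∀ (x : X) (V : X.Opens) (h : V ≤ U ⊓ W x),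
      res _ (g.preimage_mono (h.trans inf_le_left)) s = resX X' (g.preimage_mono h) (c x) •
        powSec (res L (g.preimage_mono (h.trans inf_le_right)) (e x)) m := fun x V h => by
    have := congrArg (res _ (g.preimage_mono h)) (hc x)
    rwa [res_res, res_smul, res_powSec, res_res] at this
  let T : ∀ x, Γ(CohB1.tensorPow N m, U ⊓ W x) :=
    fun x => nmQ hp (U ⊓ W x) (c x) • powSec (res N inf_le_right (ε x)) m
  have hT : ∀ (x : X) (V : X.Opens) (h : V ≤ U ⊓ W x),
      res (CohB1.tensorPow N m) h (T x) =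
        nmQ hp V (resX X' (g.preimage_mono h) (c x)) • powSec (res N (h.trans inf_le_right) (ε x)) m := fun x V h => by
    rw [res_smul, res_powSec, res_res, resX_nmQ hp h]
  obtain ⟨t, ht, -⟩ := res_glue (M := CohB1.tensorPow N m) (U := U) (fun x => U ⊓ W x) (fun _ => inf_le_left)
    (fun z hz => Opens.mem_iSup.2 ⟨z, hz, hxW z⟩) T fun x y => by
      let V := U ⊓ W x ⊓ (U ⊓ W y)
      have hx : V ≤ U ⊓ W x := inf_le_left
      have hy : V ≤ U ⊓ W y := inf_le_right
      have hxy : V ≤ W x ⊓ W y := le_inf (hx.trans inf_le_right) (hy.trans inf_le_right)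
      have h1 : resX X' (g.preimage_mono hy) (c y) =
          resX X' (g.preimage_mono hx) (c x) * resX X' (g.preimage_mono hxy) (u x y) ^ m := by
        refine (((he y).res (g.preimage_mono (hy.trans inf_le_right))).pow m).smul_inj le_rfl ?_
        simp only [res_self]
        rw [← hcV y V hy, mul_smul, ← powSec_smul, ← huV x y V hxy, ← hcV x V hx]
      have hε' : res N (hx.trans inf_le_right) (ε x) =
          nmQ hp V (resX X' (g.preimage_mono hxy) (u x y)) • res N (hy.trans inf_le_right) (ε y) := by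
        have := congrArg (res N hxy) (hrel x y)
        rwa [res_res, res_smul, res_res, hηV] at this
      rw [hT x V hx, hT y V hy, h1, map_mul, map_pow, mul_smul, ← powSec_smul, ← hε']
  refine ⟨t, fun V hV => ?_⟩
  have key : ∀ (x : X) (V' : X.Opens) (h : V' ≤ U ⊓ W x),
      Gen (CohB1.tensorPow N m) V' (res _ (h.trans inf_le_left) t) ↔
        Gen (CohB1.tensorPow L m) (g ⁻¹ᵁ V') (res _ (g.preimage_mono (h.trans inf_le_left)) s) := by
    intro x V' h
    rw [hcV x V' h, show res _ (h.trans inf_le_left) t = res (CohB1.tensorPow N m) h (T x) by rw [← ht x, res_res],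
      hT x V' h, gen_iff_isUnit (((hε x).res (h.trans inf_le_right)).pow m),
      gen_iff_isUnit (((he x).res (g.preimage_mono (h.trans inf_le_right))).pow m)]
    exact isUnit_nmQ_iff hp _
  have hcov : V ≤ iSup fun x => V ⊓ W x := fun z hz => Opens.mem_iSup.2 ⟨z, hz, hxW z⟩
  constructor
  · intro h
    refine Gen.of_cover (fun x => g ⁻¹ᵁ (V ⊓ W x)) (fun x => g.preimage_mono inf_le_left)
      (fun z hz => ?_) fun x => ?_
    · obtain ⟨x, hx⟩ := Opens.mem_iSup.1 (hcov (show g z ∈ V from hz))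
      exact Opens.mem_iSup.2 ⟨x, hx⟩
    · rw [res_res]
      refine (key x (V ⊓ W x) (inf_le_inf_right _ hV)).1 ?_
      have := h.res (inf_le_left : V ⊓ W x ≤ V)
      rwa [res_res] at this
  · intro h
    refine Gen.of_cover (fun x => V ⊓ W x) (fun x => inf_le_left) hcov fun x => ?_
    rw [res_res]
    refine (key x (V ⊓ W x) (inf_le_inf_right _ hV)).2 ?_
    have := h.res (g.preimage_mono (inf_le_left : V ⊓ W x ≤ V))
    rwa [res_res] at this

/-- Existence of a relatively ample module descends to the quotient by a finite group. -/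
theorem exists_isRelAmple_quot {Y : Scheme.{u}} (f : X ⟶ Y) [QuasiCompact f] [IsFinite g] [Surjective g]
    {L : X'.Modules} (hL : RelAmple.IsRelAmple (g ≫ f) L) :
    ∃ N : X.Modules, PicF.IsInvertible N ∧ RelAmple.IsRelAmple f N := by
  obtain ⟨N, hN, hnorm⟩ := exists_norm hp (Groth.Ega2Proj.isInvertible_of_isRelAmple hL)
  refine ⟨N, hN, inferInstance, fun V => ?_⟩
  let U : X.Opens := f ⁻¹ᵁ V.1
  let Z : X'.Opens := (g ≫ f) ⁻¹ᵁ V.1
  have : CompactSpace (U : Scheme.{u}) :=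
    isCompact_iff_compactSpace.mp (QuasiCompact.isCompact_preimage _ V.1.2 V.2.isCompact)
  refine ⟨Groth.Ega2Proj.isInvertible_restrict U.ι hN, this, fun x => ?_⟩
  obtain ⟨O, hO, hxO, hOU⟩ := exists_isAffineOpen_mem_and_subset (x := x.1) (U := U) x.2
  obtain ⟨m, s, hFs, hsO, -⟩ := exists_affine_gloc_finite (hL.2 V) (Z.ι ⁻¹' (g ⁻¹' {x.1}))
    ((g.finite_preimage_singleton x.1).preimage Z.ι.isOpenEmbedding.injective.injOn)
    (Z.ι ⁻¹ᵁ (g ⁻¹ᵁ O)) (fun y (hy : g (Z.ι y) = x.1) => show g (Z.ι y) ∈ O from hy ▸ hxO)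
  obtain ⟨φ⟩ := Groth.Ega2Proj.exists_tensorPow_restrict (L := L) Z.ι (m + 1)
  obtain ⟨ψ⟩ := Groth.Ega2Proj.exists_tensorPow_restrict (L := N) U.ι (m + 1)
  let s₀ : Γ((CohB1.tensorPow L (m + 1)).restrict Z.ι, ⊤) := φ.inv.app ⊤ s
  let sX : Γ(CohB1.tensorPow L (m + 1), g ⁻¹ᵁ U) :=
    res _ (Scheme.Opens.ι_image_top Z).ge (s₀ : Γ(CohB1.tensorPow L (m + 1), Z.ι ''ᵁ ⊤))
  obtain ⟨t, ht⟩ := hnorm (m + 1) U sX
  let t₀ : Γ((CohB1.tensorPow N (m + 1)).restrict U.ι, ⊤) :=
    (res _ (Scheme.Opens.ι_image_top U).le t : Γ(CohB1.tensorPow N (m + 1), U.ι ''ᵁ ⊤))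
  have crit : ∀ (B : X.Opens) (_ : B ≤ U),
      B ≤ U.ι ''ᵁ gloc (L := (CohB1.tensorPow N (m + 1)).restrict U.ι) t₀ ↔
        g ⁻¹ᵁ B ≤ Z.ι ''ᵁ gloc (L := (CohB1.tensorPow L (m + 1)).restrict Z.ι) s₀ := by
    intro B hB
    rw [le_image_gloc_restrict t₀ hB (hB.trans (Scheme.Opens.ι_image_top U).ge),
      le_image_gloc_restrict (U := Z) s₀ (g.preimage_mono hB) ((g.preimage_mono hB).trans (Scheme.Opens.ι_image_top Z).ge)]
    refine Iff.trans (Iff.of_eq (congrArg (Gen _ B) ?_)) ((ht B hB).trans (Iff.of_eq (congrArg (Gen _ _) ?_)))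
    · exact res_res (M := CohB1.tensorPow N (m + 1)) _ _ _
    · exact res_res (M := CohB1.tensorPow L (m + 1)) _ _ _
  refine ⟨m, homOfSection (ψ.hom.app ⊤ t₀), ?_⟩
  change x ∈ gloc (ψ.hom.app ⊤ t₀) ∧ IsAffineOpen (gloc (ψ.hom.app ⊤ t₀))
  rw [gloc_map ψ.hom]
  have hs₀ : gloc (L := (CohB1.tensorPow L (m + 1)).restrict Z.ι) s₀ = gloc s := gloc_map φ.inv _
  set G := gloc (L := (CohB1.tensorPow N (m + 1)).restrict U.ι) t₀
  have hG : g ⁻¹ᵁ (U.ι ''ᵁ G) ≤ g ⁻¹ᵁ O := by
    refine ((crit _ (Scheme.Opens.ι_image_le _ _)).1 le_rfl).trans ?_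
    rintro _ ⟨z, hz, rfl⟩
    exact hsO (hs₀ ▸ hz)
  refine ⟨?_, ?_⟩
  · let O₁ : X.Opens := U ⊓ ⟨(g '' ((Z.ι ''ᵁ gloc s : X'.Opens) : Set X')ᶜ)ᶜ,
      (g.isClosedMap _ (Z.ι ''ᵁ gloc s).isOpen.isClosed_compl).isOpen_compl⟩
    have hx₁ : x.1 ∈ O₁ := by
      refine ⟨x.2, ?_⟩
      rintro ⟨y, hy, hyx⟩
      have hyZ : y ∈ Z := by
        change g y ∈ U
        rw [hyx]; exact x.2
      exact hy ⟨⟨y, hyZ⟩, hFs (show g (Z.ι ⟨y, hyZ⟩) = x.1 from hyx), rfl⟩
    obtain ⟨z, hz, hzx⟩ := (crit O₁ inf_le_left).2 (fun y hy => by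
      rw [hs₀]
      by_contra h
      exact hy.2 ⟨y, h, rfl⟩) hx₁
    exact U.ι.isOpenEmbedding.injective hzx ▸ hz
  · have h3 : G ≤ U.ι ⁻¹ᵁ O := fun y hy => by
      obtain ⟨y', hy'⟩ := g.surjective y.1
      have := hG (show g y' ∈ U.ι ''ᵁ G from hy' ▸ ⟨y, hy, rfl⟩)
      change g y' ∈ O at this
      rwa [hy'] at this
    rw [← inf_eq_left.2 h3]
    exact isAffineOpen_gloc_inf (L := (CohB1.tensorPow N (m + 1)).restrict U.ι)
      (Groth.Ega2Proj.isInvertible_restrict U.ι (isInvertible_tensorPow hN _)) (homOfSection t₀)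
      (hO.preimage_of_isOpenImmersion U.ι (by rw [Scheme.Opens.opensRange_ι]; exact hOU))

end Groth.NormQuot
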