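/-
Quotients of quasi-projective schemes by finite groups.
-/
import Groth.Agent.Pi1Quot.Norm
import Groth.Agent.Pi1Quot.Existence
import Groth.Agent.Ega2Proj.QProjProper
import Groth.Agent.Ega2Proj.RelProjAmple
import Groth.Agent.S2925
import Groth.Prelude.Def_RelProj

set_option autoImplicit false
set_option backward.isDefEq.respectTransparency.types false

universe u

open CategoryTheory CategoryTheory.Limits AlgebraicGeometry

namespace Groth.Pi1Quot.QuotProj

variable {X S : Scheme.{u}} {f : X ⟶ S} {G : Type u} [Group G] [Finite G] {ρ : G →* Aut X}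
  (hρ : ∀ σ : G, (ρ σ).hom ≫ f = f)

include hρ

/-- The orbits lie in affine opens. -/
theorem exists_orbit_affine (hf : RelProj.IsQuasiProjective f) (x : X) :
    ∃ U : X.Opens, IsAffineOpen U ∧ ∀ σ : G, (ρ σ).hom x ∈ U := by
  obtain ⟨-, -, L, hL⟩ := hf
  obtain ⟨V, hV, hxV, -⟩ := exists_isAffineOpen_mem_and_subset (x := f x) (U := (⊤ : S.Opens)) trivial
  have hA := hL.2 ⟨V, hV⟩
  have hmem : ∀ σ : G, (ρ σ).hom x ∈ f ⁻¹ᵁ V := fun σ => by
    show f ((ρ σ).hom x) ∈ V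
    rw [← Scheme.Hom.comp_apply, hρ]
    exact hxV
  let T : Set (f ⁻¹ᵁ V).toScheme := Set.range fun σ : G => (⟨(ρ σ).hom x, hmem σ⟩ : (f ⁻¹ᵁ V).toScheme)
  obtain ⟨U', hU', hT⟩ := Groth.PropsBasic.Ample.exists_affine_finite hA T (Set.finite_range _)
  exact ⟨(f ⁻¹ᵁ V).ι ''ᵁ U', hU'.image_of_isOpenImmersion _, fun σ => ⟨_, hT ⟨σ, rfl⟩, rfl⟩⟩

/-- The quotient of a quasi-projective scheme by a finite group exists and is quasi-projective. -/
theorem exists_quot [IsLocallyNoetherian S] (hf : RelProj.IsQuasiProjective f) :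
    ∃ (Y : Scheme.{u}) (q : X ⟶ Y) (h : Y ⟶ S), q ≫ h = f ∧ SGA1.IsQuot ρ q ∧
      RelProj.IsQuasiProjective h ∧ (IsProper f → IsProper h) := by
  cases nonempty_fintype G
  obtain ⟨Y, q, hq⟩ := Groth.Pi1Quot.exists_isQuot (exists_orbit_affine hρ hf)
  obtain ⟨h, hh, -⟩ := Groth.Agent.S2925.result ρ q hq S f hρ
  obtain ⟨hft, hqc, L, hL⟩ := hf
  haveI : LocallyOfFiniteType (q ≫ h) := hh.symm ▸ hft
  haveI : QuasiCompact (q ≫ h) := hh.symm ▸ hqc
  haveI := Groth.Pi1Quot.isFinite_of_comp hq h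
  haveI := Groth.Pi1Quot.surjective hq
  haveI := Groth.Pi1Quot.quasiCompact_of_comp hq h
  haveI := Groth.Pi1Quot.locallyOfFiniteType_quot hq h
  obtain ⟨N, -, hN⟩ := Groth.NormQuot.exists_isRelAmple_quot hq h (L := L) (hh.symm ▸ hL)
  refine ⟨Y, q, h, hh, hq, ⟨inferInstance, inferInstance, N, hN⟩, fun hp => ?_⟩
  haveI : IsProper (q ≫ h) := hh.symm ▸ hp
  haveI := Groth.Pi1Quot.isSeparated_of_comp hq h
  haveI : UniversallyClosed h := UniversallyClosed.of_comp_surjective q h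
  exact { }

end Groth.Pi1Quot.QuotProj
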