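import Groth.Prelude.Def_SGA1t
import Groth.Agent.Pi1Quot.Galois
import Groth.Agent.Pi1FEt.SpecEquiv
import Mathlib.RingTheory.Etale.Pi
import Mathlib.RingTheory.TensorProduct.IncludeLeftSubRight
import Mathlib.FieldTheory.IsAlgClosed.AlgebraicClosure
import Mathlib.LinearAlgebra.Vandermonde

/-!
# Principal covers of affine schemes as Galois algebras
-/

universe u w

set_option autoImplicit false
set_option linter.style.haveILetI false
set_option linter.unusedSectionVars false
set_option backward.isDefEq.respectTransparency false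
set_option backward.defeqAttrib.useBackward true

open CategoryTheory Limits AlgebraicGeometry TensorProduct

namespace Groth.Pi1Quot

section Algebraic

variable {A B : Type u} [CommRing A] [CommRing B] [Algebra A B]
variable {G : Type w} [Group G] [Finite G] [MulSemiringAction G B] [SMulCommClass G A B]

/-- If `G` is transitive on geometric fibres of a faithfully flat etale algebra, the invariants are the base. -/
theorem isInvariant_of_transitive [Algebra.Etale A B] [Module.FaithfullyFlat A B]
    (htrans : ∀ (Ω : Type u) [Field Ω] [IsAlgClosed Ω] (s t : B →+* Ω),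
      s.comp (algebraMap A B) = t.comp (algebraMap A B) → ∃ g : G, ∀ b, t b = s (g • b)) :
    Algebra.IsInvariant A B G := by
  classical
  let μ : B ⊗[A] B →ₐ[B] (G → B) := Algebra.TensorProduct.lift (Algebra.ofId B (G → B))
    (AlgHom.pi fun g => MulSemiringAction.toAlgHom A B g) fun _ _ => Commute.all _ _
  have hμ : ∀ (a c : B) (g : G), μ (a ⊗ₜ c) g = a * g • c := fun a c g => by simp [μ]
  letI : Algebra (B ⊗[A] B) (G → B) := μ.toRingHom.toAlgebra
  haveI : IsScalarTower B (B ⊗[A] B) (G → B) :=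
    IsScalarTower.of_algebraMap_eq fun b => (μ.commutes b).symm
  haveI : Algebra.Etale (B ⊗[A] B) (G → B) := Algebra.Etale.of_restrictScalars B _ _
  haveI : Module.FaithfullyFlat (B ⊗[A] B) (G → B) := by
    refine Module.FaithfullyFlat.of_comap_surjective fun Q => ?_
    let Ω := AlgebraicClosure (Q.asIdeal.ResidueField)
    let π : B ⊗[A] B →+* Ω :=
      (algebraMap Q.asIdeal.ResidueField Ω).comp (algebraMap (B ⊗[A] B) Q.asIdeal.ResidueField)
    let s : B →+* Ω := π.comp Algebra.TensorProduct.includeLeftRingHom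
    let t : B →+* Ω := π.comp (Algebra.TensorProduct.includeRight : B →ₐ[A] B ⊗[A] B).toRingHom
    obtain ⟨g, hg⟩ := htrans Ω s t (RingHom.ext fun a =>
      congrArg π (Algebra.TensorProduct.tmul_one_eq_one_tmul a))
    have hπ : ∀ z, π z = s (μ z g) := by
      intro z
      induction z using TensorProduct.induction_on with
      | zero => simp
      | tmul a c =>
        rw [hμ, map_mul, ← hg]
        simp only [s, t, RingHom.comp_apply, ← map_mul]
        simp
      | add z w hz hw => simp [hz, hw]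
    refine ⟨PrimeSpectrum.comap (Pi.evalRingHom (fun _ : G => B) g)
      ⟨RingHom.ker s, RingHom.ker_isPrime s⟩, PrimeSpectrum.ext (Ideal.ext fun z => ?_)⟩
    change s (μ z g) = 0 ↔ z ∈ Q.asIdeal
    rw [← hπ, ← Ideal.algebraMap_residueField_eq_zero]
    exact map_eq_zero_iff _ (algebraMap Q.asIdeal.ResidueField Ω).injective
  refine ⟨fun b hb => ?_⟩
  have heq : b ⊗ₜ[A] (1 : B) = 1 ⊗ₜ[A] b := by
    refine FaithfulSMul.algebraMap_injective (B ⊗[A] B) (G → B) (funext fun g => ?_)
    change μ (b ⊗ₜ 1) g = μ (1 ⊗ₜ b) g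
    rw [hμ, hμ, smul_one, hb g, mul_one, one_mul]
  have h0 : Algebra.TensorProduct.includeLeftSubRight A B b = 0 := by
    rw [Algebra.TensorProduct.includeLeftSubRight_apply, heq, sub_self]
  obtain ⟨a, ha⟩ := (Algebra.IsEffective.of_faithfullyFlat A B b).1 h0
  exact ⟨a, ha⟩

/-- Simply transitive on geometric fibres implies free. -/
theorem isFreeAction_of_points
    (huniq : ∀ (Ω : Type u) [Field Ω] [IsAlgClosed Ω] (s : B →+* Ω) (g : G),
      (∀ b, s (g • b) = s b) → g = 1) : IsFreeAction G B := by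
  intro g hg
  by_contra hne
  obtain ⟨m, hm, hle⟩ := Ideal.exists_le_maximal _ hne
  letI := Ideal.Quotient.field m
  refine hg (huniq (AlgebraicClosure (B ⧸ m)) ((algebraMap _ _).comp (Ideal.Quotient.mk m)) g fun b => ?_)
  simp only [RingHom.comp_apply, Ideal.Quotient.eq.2 (hle (Ideal.subset_span ⟨b, rfl⟩))]

/-- A faithfully flat extension with free action has an element of trace one. -/
theorem exists_trace_eq_one [Fintype G] [Algebra.IsInvariant A B G] [FaithfulSMul A B]
    (hfree : IsFreeAction G B) : ∃ c : B, ∑ g : G, g • c = 1 := by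
  classical
  obtain ⟨ι, _, x, y, t, ht, hxy, -⟩ := exists_dual_basis A hfree
  haveI := faithfullyFlat_of_free A hfree
  have h1 : ∑ i, x i * algebraMap A B (t (y i)) = 1 := by
    simp only [ht, Finset.mul_sum]
    rw [Finset.sum_comm]
    simp [hxy]
  have h2 : (LinearMap.range t : Ideal A) = ⊤ := by
    rw [← Ideal.comap_map_eq_self_of_faithfullyFlat (B := B) (LinearMap.range t)]
    refine Ideal.eq_top_iff_one _ |>.2 ?_
    rw [Ideal.mem_comap, map_one, ← h1]
    exact Ideal.sum_mem _ fun i _ =>
      Ideal.mul_mem_left _ _ (Ideal.mem_map_of_mem _ (LinearMap.mem_range_self t (y i)))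
  obtain ⟨c, hc⟩ : (1 : A) ∈ LinearMap.range t := by rw [h2]; trivial
  exact ⟨c, by rw [← ht, hc, map_one]⟩

/-- Criterion: `A[X]/f ≅ B` when the conjugates of a root of `f` have unit differences. -/
theorem bijective_of_root [Nontrivial A] [Algebra.IsInvariant A B G] [FaithfulSMul A B] {C : Type u}
    [CommRing C] [Algebra A C] (φ : C →ₐ[A] B) (x : C) (θ : B) (hθ : φ x = θ)
    (hx : Function.Surjective (Polynomial.aeval (R := A) x)) (f : Polynomial A) (hf : f.Monic)
    (hdeg : f.natDegree = Nat.card G) (hfx : Polynomial.aeval x f = 0)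
    (hθ' : ∀ g h : G, g ≠ h → IsUnit (g • θ - h • θ)) : Function.Bijective φ := by
  classical
  cases nonempty_fintype G
  obtain ⟨N, hN⟩ : ∃ N, Fintype.card G = N := ⟨_, rfl⟩
  rw [Nat.card_eq_fintype_card, hN] at hdeg
  let e : Fin N ≃ G := (finCongr hN.symm).trans (Fintype.equivFin G).symm
  let v : Fin N → B := fun i => e i • θ
  let V : Matrix (Fin N) (Fin N) B := Matrix.vandermonde v
  have hV : IsUnit V.det := by
    rw [Matrix.det_vandermonde]
    refine IsUnit.prod_iff.2 fun i _ => IsUnit.prod_iff.2 fun j hj => hθ' _ _ fun h => ?_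
    exact (Finset.mem_Ioi.1 hj).ne (e.injective h).symm
  have hVinj : Function.Injective V.mulVec := fun a b h => by
    have := congrArg (V⁻¹).mulVec h
    rwa [Matrix.mulVec_mulVec, Matrix.mulVec_mulVec, Matrix.nonsing_inv_mul _ hV, Matrix.one_mulVec,
      Matrix.one_mulVec] at this
  have hvan : ∀ (g : G) (a : Fin N → B) (i : Fin N),
      V.mulVec a i = ∑ k : Fin N, (e i • θ) ^ (k : ℕ) * a k := fun g a i => by
    simp [V, v, Matrix.mulVec, dotProduct, Matrix.vandermonde_apply]
  have hev : ∀ a : Fin N → A, φ (∑ k : Fin N, a k • x ^ (k : ℕ)) = ∑ k : Fin N, a k • θ ^ (k : ℕ) := fun a => by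
    simp [hθ]
  constructor
  · refine (injective_iff_map_eq_zero φ).2 fun c hc => ?_
    obtain ⟨p, rfl⟩ := hx c
    have hp : Polynomial.aeval x p = Polynomial.aeval x (p %ₘ f) := by
      conv_lhs => rw [← Polynomial.modByMonic_add_div p f, map_add, map_mul, hfx, zero_mul, add_zero]
    have hlt : (p %ₘ f).natDegree < N := by
      have hf1 : f ≠ 1 := by
        rintro rfl
        rw [Polynomial.natDegree_one] at hdeg
        exact Fintype.card_ne_zero (hN.trans hdeg.symm)
      exact (Polynomial.natDegree_modByMonic_lt p hf hf1).trans_eq hdeg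
    rw [hp, Polynomial.aeval_eq_sum_range' hlt, Finset.sum_range] at hc ⊢
    rw [hev] at hc
    have ha : (fun k : Fin N => algebraMap A B ((p %ₘ f).coeff k)) = 0 := by
      refine hVinj ?_
      rw [Matrix.mulVec_zero]
      refine funext fun i => ?_
      rw [hvan (e i)]
      have := congrArg (e i • ·) hc
      simp only [Finset.smul_sum, smul_zero] at this
      rw [Pi.zero_apply, ← this]
      refine Finset.sum_congr rfl fun k _ => ?_
      rw [smul_comm (e i), Algebra.smul_def, smul_pow', mul_comm]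
    refine Finset.sum_eq_zero fun k _ => ?_
    rw [FaithfulSMul.algebraMap_injective A B ((congrFun ha k).trans (map_zero _).symm), zero_smul]
  · intro b
    obtain ⟨a, ha⟩ := Matrix.mulVec_surjective_iff_isUnit.2 ((Matrix.isUnit_iff_isUnit_det V).2 hV)
      (fun i => e i • b)
    have hall : ∀ g : G, ∑ k : Fin N, (g • θ) ^ (k : ℕ) * a k = g • b := fun g => by
      have := congrFun ha (e.symm g)
      rw [hvan g] at this
      simpa using this
    have hfix : ∀ (k : Fin N) (h : G), h • a k = a k := by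
      intro k h
      refine congrFun (f := fun k => h • a k) (g := a) (hVinj (funext fun i => ?_)) k
      rw [hvan 1, hvan 1, hall]
      have := congrArg (h • ·) (hall (h⁻¹ * e i))
      simpa only [Finset.smul_sum, smul_mul', smul_pow', smul_smul, mul_inv_cancel_left] using this
    choose c hc using fun k => Algebra.IsInvariant.isInvariant (A := A) (a k) (hfix k)
    refine ⟨∑ k : Fin N, c k • x ^ (k : ℕ), ?_⟩
    rw [hev]
    have := hall 1
    simp only [one_smul] at this
    rw [← this]
    exact Finset.sum_congr rfl fun k _ => by rw [Algebra.smul_def, hc, mul_comm]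

end Algebraic

section Scheme

variable {A : Type u} [CommRing A] {G : Type w} [Group G] [Finite G]

/-- A principal cover of an affine scheme is the spectrum of a Galois algebra. -/
theorem exists_galois_algebra (P : FEt.Cat (Spec (CommRingCat.of A))) (ρ : G →* Aut P)
    (hP : SGA1t.IsPrincipal G P ρ) :
    ∃ (B : Type u) (_ : CommRing B) (_ : Algebra A B) (act : MulSemiringAction G B)
      (_ : SMulCommClass G A B) (e : P.left ≅ Spec (CommRingCat.of B)),
      e.hom ≫ Spec.map (CommRingCat.ofHom (algebraMap A B)) = P.hom ∧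
      (∀ g : G, (ρ g).hom.left ≫ e.hom =
        e.hom ≫ Spec.map (CommRingCat.ofHom (MulSemiringAction.toRingHom G B g⁻¹))) ∧
      IsFreeAction G B ∧ Algebra.IsInvariant A B G ∧ FaithfulSMul A B := by
  let A' := (Pi1FEt.specFun A).objPreimage P
  let iA : (Pi1FEt.specFun A).obj A' ≅ P := (Pi1FEt.specFun A).objObjPreimageIso P
  let B := A'.unop.obj
  haveI : IsIso iA.inv.left :=
    inferInstanceAs (IsIso ((MorphismProperty.Over.forget FEt.prop ⊤ _ ⋙ Over.forget _).map iA.inv))
  let e : P.left ≅ Spec (CommRingCat.of B) := asIso iA.inv.left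
  have he : e.hom ≫ Spec.map (CommRingCat.ofHom (algebraMap A B)) = P.hom :=
    MorphismProperty.Over.w iA.inv
  let ψ : G → (B →+* B) := fun g => (Spec.preimage (e.inv ≫ (ρ g).hom.left ≫ e.hom)).hom
  have hψ : ∀ g, Spec.map (CommRingCat.ofHom (ψ g)) = e.inv ≫ (ρ g).hom.left ≫ e.hom := fun g =>
    Spec.map_preimage _
  have hψA : ∀ g, (ψ g).comp (algebraMap A B) = algebraMap A B := fun g => by
    have h : CommRingCat.ofHom ((ψ g).comp (algebraMap A B)) = CommRingCat.ofHom (algebraMap A B) := by
      apply Spec.map_injective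
      rw [CommRingCat.ofHom_comp, Spec.map_comp, hψ, Category.assoc, Category.assoc, he,
        MorphismProperty.Over.w, Iso.inv_comp_eq, he]
    exact congrArg CommRingCat.Hom.hom h
  have hψ1 : ψ 1 = RingHom.id B := by
    refine congrArg CommRingCat.Hom.hom (Spec.map_injective (a₁ := CommRingCat.ofHom (ψ 1)) (a₂ := 𝟙 _) ?_)
    rw [hψ, map_one, Spec.map_id]
    change e.inv ≫ 𝟙 P.left ≫ e.hom = _
    rw [Category.id_comp, Iso.inv_hom_id]
  have hψm : ∀ g h, ψ (g * h) = (ψ h).comp (ψ g) := fun g h => by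
    refine congrArg CommRingCat.Hom.hom
      (Spec.map_injective (a₁ := CommRingCat.ofHom (ψ (g * h))) (a₂ := CommRingCat.ofHom ((ψ h).comp (ψ g))) ?_)
    rw [CommRingCat.ofHom_comp, Spec.map_comp, hψ, hψ, hψ, map_mul, Aut.Aut_mul_def, Iso.trans_hom]
    change e.inv ≫ ((ρ h).hom.left ≫ (ρ g).hom.left) ≫ e.hom = _
    simp
  letI act : MulSemiringAction G B :=
    { smul := fun g b => ψ g⁻¹ b
      one_smul := fun b => by
        change ψ (1 : G)⁻¹ b = b
        rw [inv_one, hψ1, RingHom.id_apply]
      mul_smul := fun g h b => by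
        change ψ (g * h)⁻¹ b = ψ g⁻¹ (ψ h⁻¹ b)
        rw [mul_inv_rev, hψm, RingHom.comp_apply]
      smul_zero := fun g => map_zero (ψ g⁻¹)
      smul_add := fun g => map_add (ψ g⁻¹)
      smul_one := fun g => map_one (ψ g⁻¹)
      smul_mul := fun g => map_mul (ψ g⁻¹) }
  haveI : SMulCommClass G A B := ⟨fun g a b => by
    change ψ g⁻¹ (a • b) = a • ψ g⁻¹ b
    rw [Algebra.smul_def, Algebra.smul_def, map_mul]
    exact congrArg (· * _) (RingHom.congr_fun (hψA g⁻¹) a)⟩
  have hact : ∀ g : G, (ρ g).hom.left ≫ e.hom =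
      e.hom ≫ Spec.map (CommRingCat.ofHom (MulSemiringAction.toRingHom G B g⁻¹)) := fun g => by
    have : MulSemiringAction.toRingHom G B g⁻¹ = ψ g := RingHom.ext fun b => by
      change ψ g⁻¹⁻¹ b = ψ g b
      rw [inv_inv]
    rw [this, hψ, Iso.hom_inv_id_assoc]
  -- geometric points
  let pt : ∀ {Ω : Type u} [Field Ω] {ξ : Spec (CommRingCat.of Ω) ⟶ Spec (CommRingCat.of A)}
      (s : B →+* Ω), Spec.map (CommRingCat.ofHom (s.comp (algebraMap A B))) = ξ → FEt.fiberObj ξ P :=
    fun {Ω} _ {ξ} s hs => ⟨Spec.map (CommRingCat.ofHom s) ≫ e.inv, by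
      rw [Category.assoc, ← he, Iso.inv_hom_id_assoc, ← Spec.map_comp, ← CommRingCat.ofHom_comp, hs]⟩
  have key : ∀ (Ω : Type u) [Field Ω] (ξ : Spec (CommRingCat.of Ω) ⟶ Spec (CommRingCat.of A))
      (s t : B →+* Ω) (hs : Spec.map (CommRingCat.ofHom (s.comp (algebraMap A B))) = ξ)
      (ht : Spec.map (CommRingCat.ofHom (t.comp (algebraMap A B))) = ξ) (g : G),
      (FEt.fiber ξ).map (ρ g).hom (pt s hs) = pt t ht ↔ ∀ b, t b = s (g⁻¹ • b) := by
    intro Ω _ ξ s t hs ht g
    refine Subtype.ext_iff.trans ?_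
    change (Spec.map (CommRingCat.ofHom s) ≫ e.inv) ≫ (ρ g).hom.left = Spec.map (CommRingCat.ofHom t) ≫ e.inv ↔ _
    rw [← cancel_mono e.hom, Category.assoc, Category.assoc, Category.assoc, hact, Iso.inv_hom_id,
      Category.comp_id, Iso.inv_hom_id_assoc, ← Spec.map_comp, Spec.map_inj, ← CommRingCat.ofHom_comp]
    refine ⟨fun h b => (RingHom.congr_fun (congrArg CommRingCat.Hom.hom h) b).symm,
      fun h => congrArg CommRingCat.ofHom (RingHom.ext fun b => (h b).symm)⟩
  haveI : Algebra.Etale A B := inferInstance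
  haveI : Module.FaithfullyFlat A B := by
    refine Module.FaithfullyFlat.of_comap_surjective fun q => ?_
    obtain ⟨x, hx⟩ := hP.1 q
    refine ⟨e.hom x, ?_⟩
    rw [← he] at hx
    exact hx
  have hinv : Algebra.IsInvariant A B G := by
    refine isInvariant_of_transitive fun Ω _ _ s t hst => ?_
    obtain ⟨g, hg, -⟩ := hP.2 Ω (Spec.map (CommRingCat.ofHom (s.comp (algebraMap A B))))
      (pt s rfl) (pt t (by rw [hst]))
    exact ⟨g⁻¹, (key Ω _ s t rfl (by rw [hst]) g).1 hg⟩
  refine ⟨B, inferInstance, inferInstance, act, inferInstance, e, he, hact, ?_, hinv, inferInstance⟩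
  refine isFreeAction_of_points fun Ω _ _ s g hg => inv_eq_one.1 ?_
  obtain ⟨g₀, -, huniq⟩ := hP.2 Ω (Spec.map (CommRingCat.ofHom (s.comp (algebraMap A B))))
    (pt s rfl) (pt s rfl)
  rw [huniq g⁻¹ ((key Ω _ s s rfl rfl g⁻¹).2 fun b => by rw [inv_inv, hg]),
    huniq 1 ((key Ω _ s s rfl rfl 1).2 fun b => by rw [inv_one, one_smul])]

end Scheme

end Groth.Pi1Quot
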