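import Groth.Agent.Pi1Quot.Galois
import Mathlib.Algebra.BigOperators.Ring.Finset
import Mathlib.RingTheory.Kaehler.Basic

/-!
# Invariants of unramified algebras

If a finite group `G` acts on `A` such that every ideal `(g • a - a)_a` is generated by an idempotent
(for example `A` is unramified over a ring fixed by `G`), then `A` is finite projective and etale over
the ring of invariants.
-/

universe u v w

set_option autoImplicit false
set_option linter.unusedSectionVars false

open TensorProduct

namespace Groth.Pi1Quot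

variable {G : Type w} [Group G] {A : Type v} [CommRing A] [MulSemiringAction G A]

/-- The fixed locus of every group element is open and closed. -/
structure FixIdem (e : G → A) : Prop where
  kills : ∀ g a, e g * (g • a - a) = 0
  one_sub_mem : ∀ g, 1 - e g ∈ Ideal.span (Set.range fun a : A => g • a - a)

theorem fixIdem_of_formallyUnramified {R : Type u} [CommRing R] [Algebra R A] [SMulCommClass G R A]
    [Algebra.EssFiniteType R A] [Algebra.FormallyUnramified R A] : ∃ e : G → A, FixIdem e := by
  obtain ⟨v, hv0, hv1⟩ := (Algebra.FormallyUnramified.iff_exists_tensorProduct (R := R) (S := A)).1 inferInstance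
  let χ : G → A ⊗[R] A →ₐ[R] A := fun g =>
    Algebra.TensorProduct.lift (AlgHom.id R A) (MulSemiringAction.toAlgHom R A g) fun _ _ => Commute.all _ _
  refine ⟨fun g => χ g v, ⟨fun g a => ?_, fun g => ?_⟩⟩
  · have h := congrArg (χ g) (hv0 a)
    simp [χ] at h
    rw [mul_comm]
    exact h
  · have h1 : 1 - v ∈ KaehlerDifferential.ideal R A := by
      rw [KaehlerDifferential.ideal, RingHom.mem_ker, map_sub, map_one, hv1, sub_self]
    rw [← KaehlerDifferential.span_range_eq_ideal] at h1
    have h2 := Ideal.mem_map_of_mem (χ g) h1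
    rw [map_sub, map_one, Ideal.map_span, ← Set.range_comp] at h2
    refine Ideal.span_le.2 ?_ h2
    rintro _ ⟨a, rfl⟩
    refine Ideal.subset_span ⟨a, ?_⟩
    simp [χ]

namespace FixIdem

variable {e : G → A} (he : FixIdem e)
include he

theorem mul_eq (g : G) {z : A} (hz : ∀ a, z * (g • a - a) = 0) : z * e g = z := by
  have : ∀ r ∈ Ideal.span (Set.range fun a : A => g • a - a), z * r = 0 := fun r hr => by
    induction hr using Submodule.span_induction with
    | mem r hr => obtain ⟨a, rfl⟩ := hr; exact hz a
    | zero => simp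
    | add r s _ _ hr hs => rw [mul_add, hr, hs, add_zero]
    | smul c r _ hr => rw [smul_eq_mul, mul_left_comm, hr, mul_zero]
  have := this _ (he.one_sub_mem g)
  rwa [mul_sub, mul_one, sub_eq_zero, eq_comm] at this

theorem mul_smul_eq (g : G) (a : A) : e g * g • a = e g * a := by
  rw [← sub_eq_zero, ← mul_sub, he.kills]

theorem idem (g : G) : e g * e g = e g := he.mul_eq g (he.kills g)

theorem map_one : e 1 = 1 := by
  have h := he.mul_eq 1 (z := 1) (fun a => by simp)
  rwa [one_mul] at h

theorem mul_le (a b : G) : e a * e b * e (a * b) = e a * e b := by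
  refine he.mul_eq _ fun c => ?_
  have h1 := he.kills a (b • c)
  have h2 := he.kills b c
  rw [mul_smul]
  linear_combination e b * h1 + e a * h2

theorem inv_eq (g : G) : e g⁻¹ = e g := by
  have h : ∀ k : G, e k * e k⁻¹ = e k := fun k => he.mul_eq _ fun a => by
    have := he.kills k (k⁻¹ • a)
    rw [smul_inv_smul] at this
    linear_combination -this
  rw [← h g⁻¹, inv_inv, mul_comm, h]

theorem smul_eq (h g : G) : h • e g = e (h * g * h⁻¹) := by
  have h1 : ∀ h g : G, h • e g * e (h * g * h⁻¹) = h • e g := fun h g => he.mul_eq _ fun a => by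
    have := congrArg (h • ·) (he.kills g (h⁻¹ • a))
    simpa [smul_mul', smul_sub, mul_smul] using this
  have h2 := congrArg (h • ·) (h1 h⁻¹ (h * g * h⁻¹))
  simp only [smul_mul', smul_inv_smul, inv_inv, show h⁻¹ * (h * g * h⁻¹) * h = g by group] at h2
  rw [← h2, mul_comm, h1]

theorem mul_trans (a b : G) : e a * e b = e a * e (b * a) := by
  have h1 := he.mul_le b a
  have h2 := he.mul_le (b * a) a⁻¹
  rw [mul_inv_cancel_right, he.inv_eq] at h2
  linear_combination -h1 + h2

theorem exists_coords (s : Finset G) :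
    ∃ (ι : Type v) (_ : Fintype ι) (x y : ι → A),
      (∑ i, x i * y i = 1) ∧ ∀ g ∈ s, ∑ i, x i * g • y i = e g := by
  classical
  induction s using Finset.induction_on with
  | empty => exact ⟨PUnit, inferInstance, fun _ => 1, fun _ => 1, by simp, by simp⟩
  | insert g t hgt ih =>
    obtain ⟨ι, _, x, y, h1, h2⟩ := ih
    have h := he.one_sub_mem g
    rw [Ideal.span, Finsupp.mem_span_range_iff_exists_finsupp] at h
    obtain ⟨c, hc⟩ := h
    rw [Finsupp.sum] at hc
    simp only [smul_eq_mul, mul_sub, Finset.sum_sub_distrib] at hc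
    let x' : Option c.support → A := fun o => o.elim (1 + ∑ a : c.support, c a * (a : A)) fun a => -(c a)
    let y' : Option c.support → A := fun o => o.elim 1 fun a => (a : A)
    have h1' : ∑ o, x' o * y' o = 1 := by
      rw [Fintype.sum_option]
      simp [x', y', Finset.sum_neg_distrib]
    have h2' : ∑ o, x' o * g • y' o = e g := by
      rw [Fintype.sum_option]
      simp only [x', y', Option.elim, smul_one, mul_one, neg_mul, Finset.sum_neg_distrib]
      rw [Finset.sum_coe_sort c.support (fun a => c a * g • a), Finset.sum_coe_sort c.support (fun a => c a * a)]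
      linear_combination -hc
    have hsum : ∀ g' : G, ∑ k : ι × Option c.support, x k.1 * x' k.2 * g' • (y k.1 * y' k.2) =
        (∑ i, x i * g' • y i) * ∑ o, x' o * g' • y' o := fun g' => by
      rw [Fintype.sum_mul_sum, Fintype.sum_prod_type]
      exact Finset.sum_congr rfl fun i _ => Finset.sum_congr rfl fun o _ => by rw [smul_mul']; ring
    refine ⟨ι × Option c.support, inferInstance, fun k => x k.1 * x' k.2, fun k => y k.1 * y' k.2, ?_, ?_⟩
    · have := hsum 1
      simp only [one_smul] at this
      rw [this, h1, h1', one_mul]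
    · intro g' hg'
      rw [hsum]
      have hfix : ∀ (κ : Type v) [Fintype κ] (a b : κ → A), (∑ i, a i * b i = 1) →
          e g' * ∑ i, a i * g' • b i = e g' := fun κ _ a b hab => by
        rw [Finset.mul_sum]
        simp_rw [mul_left_comm (e g'), he.mul_smul_eq, mul_left_comm _ (e g')]
        rw [← Finset.mul_sum, hab, mul_one]
      rcases Finset.mem_insert.1 hg' with rfl | hg'
      · rw [h2', mul_comm, hfix ι x y h1]
      · rw [h2 g' hg', hfix _ x' y' h1']

variable [Fintype G]

theorem exists_fix_coords : ∃ (ι : Type v) (_ : Fintype ι) (x y : ι → A),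
    ∀ g : G, ∑ i, x i * g • y i = e g := by
  obtain ⟨ι, _, x, y, -, h⟩ := exists_coords he Finset.univ
  exact ⟨ι, inferInstance, x, y, fun g => h g (Finset.mem_univ g)⟩

/-- Weights choosing one element in each class of group elements with the same restriction. -/
theorem exists_weights : ∃ w : G → A, ∀ k : G, ∑ g, w g * e (g * k⁻¹) = 1 := by
  classical
  let σ := Fintype.equivFin G
  refine ⟨fun g => ∏ i ∈ Finset.univ.filter (· < σ g), (1 - e (σ.symm i * g⁻¹)), fun k => ?_⟩
  have hord := Finset.prod_one_sub_ordered (Finset.univ : Finset (Fin (Fintype.card G)))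
    (fun i => e (σ.symm i * k⁻¹))
  have hzero : ∏ i, (1 - e (σ.symm i * k⁻¹)) = 0 :=
    Finset.prod_eq_zero (Finset.mem_univ (σ k)) (by simp [he.map_one])
  rw [hzero, eq_comm, sub_eq_zero, eq_comm] at hord
  rw [← σ.symm.sum_comp]
  refine (Finset.sum_congr rfl fun j _ => ?_).trans hord
  simp only [Equiv.apply_symm_apply]
  rw [mul_comm]
  set ε := e (σ.symm j * k⁻¹)
  suffices ∀ s : Finset (Fin (Fintype.card G)),
      ε * ∏ i ∈ s, (1 - e (σ.symm i * (σ.symm j)⁻¹)) = ε * ∏ i ∈ s, (1 - e (σ.symm i * k⁻¹)) from this _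
  intro s
  induction s using Finset.induction_on with
  | empty => simp
  | insert i s hi ih =>
    rw [Finset.prod_insert hi, Finset.prod_insert hi]
    have key : ε * e (σ.symm i * (σ.symm j)⁻¹) = ε * e (σ.symm i * k⁻¹) := by
      rw [he.mul_trans]
      congr 2
      group
    linear_combination (1 - e (σ.symm i * (σ.symm j)⁻¹)) * ih -
      (∏ x ∈ s, (1 - e (σ.symm x * k⁻¹))) * key

variable (B : Type u) [CommRing B] [Algebra B A] [SMulCommClass G B A]
  [Algebra.IsInvariant B A G] [FaithfulSMul B A]

theorem exists_trace : ∃ (w : G → A) (t : A →ₗ[B] B), (∀ k : G, ∑ g, w g * e (g * k⁻¹) = 1) ∧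
    ∀ a, algebraMap B A (t a) = ∑ g : G, w g * g • a := by
  obtain ⟨w, hw⟩ := exists_weights he
  have hF : ∀ (g k : G) (a : A), e (k * g⁻¹) * g • a = e (k * g⁻¹) * k • a := fun g k a => by
    rw [← he.mul_smul_eq (k * g⁻¹) (g • a), ← mul_smul, inv_mul_cancel_right]
  have hinv : ∀ a : A, ∀ h : G, h • (∑ g : G, w g * g • a) = ∑ g : G, w g * g • a := by
    intro a h
    let u : G → A := fun k => h • w (h⁻¹ * k)
    have e1 : h • (∑ g : G, w g * g • a) = ∑ k, u k * k • a := by
      rw [Finset.smul_sum]
      refine Fintype.sum_bijective (h * ·) (Group.mulLeft_bijective h) _ _ fun g => ?_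
      simp [u, smul_mul', mul_smul]
    have hu : ∀ k : G, ∑ g, u g * e (g * k⁻¹) = 1 := by
      intro k
      have := congrArg (h • ·) (hw (h⁻¹ * k))
      simp only [Finset.smul_sum, smul_mul', he.smul_eq, smul_one] at this
      rw [← this]
      refine (Fintype.sum_bijective (h * ·) (Group.mulLeft_bijective h) _ _ fun g => ?_).symm
      simp only [u, inv_mul_cancel_left]
      congr 2
      group
    rw [e1]
    calc ∑ k, u k * k • a = ∑ k, ∑ g, (w g * e (g * k⁻¹)) * (u k * k • a) := by
          simp [← Finset.sum_mul, hw]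
      _ = ∑ g, ∑ k, (u k * e (k * g⁻¹)) * (w g * g • a) := by
          rw [Finset.sum_comm]
          refine Finset.sum_congr rfl fun g _ => Finset.sum_congr rfl fun k _ => ?_
          have hsymm : e (g * k⁻¹) = e (k * g⁻¹) := by rw [← he.inv_eq, mul_inv_rev, inv_inv]
          rw [hsymm]
          linear_combination -(u k * w g) * hF g k a
      _ = ∑ g, w g * g • a := by simp [← Finset.sum_mul, hu]
  choose t ht using fun a => Algebra.IsInvariant.isInvariant (A := B) _ (hinv a)
  have hinj := FaithfulSMul.algebraMap_injective B A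
  refine ⟨w, { toFun := t, map_add' := fun a b => hinj ?_, map_smul' := fun r a => hinj ?_ }, hw, ht⟩
  · simp [ht, Finset.sum_add_distrib, mul_add]
  · simp [ht, Algebra.smul_def, smul_mul', Finset.mul_sum, mul_left_comm]

theorem dual_aux {ι : Type v} [Fintype ι] (x y : ι → A) (hxy : ∀ g : G, ∑ i, x i * g • y i = e g)
    (w : G → A) (t : A →ₗ[B] B) (hw : ∀ k : G, ∑ g, w g * e (g * k⁻¹) = 1)
    (ht : ∀ a, algebraMap B A (t a) = ∑ g : G, w g * g • a) (a : A) :
    ∑ i, t (a * y i) • x i = a := by
  simp only [Algebra.smul_def, ht, Finset.sum_mul, smul_mul']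
  rw [Finset.sum_comm]
  have h1 : ∀ g : G, ∑ i, w g * (g • a * g • y i) * x i = w g * e g * a := fun g => by
    rw [mul_assoc (w g), ← he.mul_smul_eq g a, ← hxy g, Finset.sum_mul, Finset.mul_sum]
    exact Finset.sum_congr rfl fun i _ => by ring
  simp only [h1, ← Finset.sum_mul]
  simpa using congrArg (· * a) (hw 1)

theorem exists_dual_basis : ∃ (ι : Type v) (_ : Fintype ι) (x y : ι → A) (t : A →ₗ[B] B),
    (∑ i, x i * y i = 1) ∧ (∀ a : A, ∑ i, t (a * y i) • x i = a) ∧ ∀ a : A, ∑ i, t (a * x i) • y i = a := by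
  obtain ⟨ι, _, x, y, hxy⟩ := exists_fix_coords he
  obtain ⟨w, t, hw, ht⟩ := exists_trace he B
  have hyx : ∀ g : G, ∑ i, y i * g • x i = e g := fun g => by
    have := congrArg (g • ·) (hxy g⁻¹)
    simp only [Finset.smul_sum, smul_mul', smul_inv_smul, he.smul_eq] at this
    rw [show g * g⁻¹ * g⁻¹ = g⁻¹ by group, he.inv_eq] at this
    rw [← this]
    exact Finset.sum_congr rfl fun i _ => mul_comm _ _
  refine ⟨ι, inferInstance, x, y, t, ?_, dual_aux he B x y hxy w t hw ht, dual_aux he B y x hyx w t hw ht⟩
  simpa [he.map_one] using hxy 1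

theorem finite : Module.Finite B A := by
  obtain ⟨ι, _, x, y, t, -, h, -⟩ := exists_dual_basis he B
  exact Module.Finite.of_surjective (∑ i, (LinearMap.proj i).smulRight (x i) : (ι → B) →ₗ[B] A)
    fun a => ⟨fun i => t (a * y i), by simp [LinearMap.sum_apply, h]⟩

theorem projective : Module.Projective B A := by
  obtain ⟨ι, _, x, y, t, -, h, -⟩ := exists_dual_basis he B
  refine Module.Projective.of_split (LinearMap.pi fun i => t ∘ₗ LinearMap.mulRight B (y i))
    (∑ i, (LinearMap.proj i).smulRight (x i)) (LinearMap.ext fun a => ?_)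
  simp [LinearMap.sum_apply, h]

theorem etale : Algebra.Etale B A := by
  have := he.finite B
  have := he.projective B
  have := Module.finitePresentation_of_projective B A
  have : Algebra.FormallyUnramified B A := by
    obtain ⟨ι, _, x, y, t, h1, hy, hx⟩ := exists_dual_basis he B
    refine Algebra.FormallyUnramified.iff_exists_tensorProduct.2
      ⟨∑ i, x i ⊗ₜ[B] y i, fun s => ?_, by simp [h1]⟩
    rw [sub_mul, sub_eq_zero, Finset.mul_sum, Finset.mul_sum]
    simp only [Algebra.TensorProduct.tmul_mul_tmul, one_mul]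
    calc ∑ i, x i ⊗ₜ[B] (s * y i) = ∑ i, ∑ j, x i ⊗ₜ[B] (t (s * y i * x j) • y j) := by
          simp_rw [← TensorProduct.tmul_sum, hx]
      _ = ∑ j, ∑ i, (t (s * x j * y i) • x i) ⊗ₜ[B] y j := by
          rw [Finset.sum_comm]
          simp_rw [← TensorProduct.smul_tmul, mul_right_comm s]
      _ = ∑ j, (s * x j) ⊗ₜ[B] y j := by simp_rw [← TensorProduct.sum_tmul, hy]
  exact Algebra.Etale.of_formallyUnramified_of_flat

end FixIdem

end Groth.Pi1Quot
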